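import Cfsg.Agent.Omega.PushUp.Main

/-!
# Pushing up for 2-groups, general form: the case `b = 2` and the theorem

See `Cfsg.Agent.Omega.PushUp.Main` and `blueprints/OMEGA-SQ1-helper603.md`, section 3, (2e).
-/

set_option autoImplicit false

namespace Cfsg.Agent.Omega.PushUp

open Cfsg.Agent.MinSimple.PushUp

variable {G : Type*} [Group G]

/-! ### Commutators modulo a central subgroup -/

theorem closure_left {S : Set G} {F : Subgroup G} (hSF : ∀ s ∈ S, ∀ f ∈ F, s * f = f * s) {g : G}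
    (hS : ∀ s ∈ S, ∃ f ∈ F, cj g s = f * s) :
    ∀ x ∈ Subgroup.closure S, ∃ f ∈ F, cj g x = f * x := by
  let K : Subgroup G :=
    { carrier := {x | (∀ f ∈ F, x * f = f * x) ∧ ∃ f ∈ F, cj g x = f * x}
      one_mem' := ⟨fun f _ => by simp, 1, F.one_mem, by simp [cj]⟩
      mul_mem' := by
        rintro x y ⟨hx, f₁, hf₁, h₁⟩ ⟨hy, f₂, hf₂, h₂⟩
        refine ⟨fun f hf => ?_, f₁ * f₂, F.mul_mem hf₁ hf₂, ?_⟩
        · rw [mul_assoc, hy f hf, ← mul_assoc, hx f hf, mul_assoc]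
        · rw [cj_prod, h₁, h₂]
          calc f₁ * x * (f₂ * y) = f₁ * (x * f₂) * y := by simp [mul_assoc]
            _ = f₁ * (f₂ * x) * y := by rw [hx f₂ hf₂]
            _ = f₁ * f₂ * (x * y) := by simp [mul_assoc]
      inv_mem' := by
        rintro x ⟨hx, f, hf, h₁⟩
        have hx' : ∀ f ∈ F, x⁻¹ * f = f * x⁻¹ := by
          intro f hf
          have : Commute x⁻¹ f := Commute.inv_left (hx f hf)
          exact this
        refine ⟨hx', f⁻¹, F.inv_mem hf, ?_⟩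
        rw [cj_inv, h₁, mul_inv_rev, hx' _ (F.inv_mem hf)] }
  have hle : Subgroup.closure S ≤ K := by
    rw [Subgroup.closure_le]
    intro s hs
    exact ⟨hSF s hs, hS s hs⟩
  intro x hx
  exact (hle hx).2

theorem closure_cent {S : Set G} {F : Subgroup G} (hSF : ∀ s ∈ S, ∀ f ∈ F, s * f = f * s) :
    ∀ x ∈ Subgroup.closure S, ∀ f ∈ F, x * f = f * x := by
  have hle : Subgroup.closure S ≤ Subgroup.centralizer (F : Set G) := by
    rw [Subgroup.closure_le]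
    intro s hs
    rw [SetLike.mem_coe, Subgroup.mem_centralizer_iff]
    intro f hf
    exact (hSF s hs f hf).symm
  intro x hx f hf
  exact (Subgroup.mem_centralizer_iff.1 (hle hx) f hf).symm

theorem closure_comm {S : Set G} {F : Subgroup G} (hSF : ∀ s ∈ S, ∀ f ∈ F, s * f = f * s)
    (hS : ∀ s ∈ S, ∀ t ∈ S, ∃ f ∈ F, cj s t = f * t) :
    ∀ x ∈ Subgroup.closure S, ∀ y ∈ Subgroup.closure S, ∃ f ∈ F, cj x y = f * y := by
  have hcen := closure_cent hSF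
  have h1 : ∀ s ∈ S, ∀ y ∈ Subgroup.closure S, ∃ f ∈ F, cj s y = f * y := fun s hs =>
    closure_left hSF (hS s hs)
  intro x hx y hy
  let K : Subgroup G :=
    { carrier := {x | (∀ f ∈ F, x * f = f * x) ∧ ∃ f ∈ F, cj x y = f * y}
      one_mem' := ⟨fun f _ => by simp, 1, F.one_mem, by simp [cj]⟩
      mul_mem' := by
        rintro a b ⟨ha, f₁, hf₁, h₁⟩ ⟨hb, f₂, hf₂, h₂⟩
        refine ⟨fun f hf => ?_, f₂ * f₁, F.mul_mem hf₂ hf₁, ?_⟩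
        · rw [mul_assoc, hb f hf, ← mul_assoc, ha f hf, mul_assoc]
        · rw [cj_mul, h₂, cj_prod, h₁, cj_eq_self.2 (ha f₂ hf₂), mul_assoc]
      inv_mem' := by
        rintro a ⟨ha, f, hf, h₁⟩
        have ha' : ∀ f ∈ F, a⁻¹ * f = f * a⁻¹ := by
          intro f hf
          have : Commute a⁻¹ f := Commute.inv_left (ha f hf)
          exact this
        refine ⟨ha', f⁻¹, F.inv_mem hf, ?_⟩
        have h2 := congrArg (cj a⁻¹) h₁
        rw [cj_inv_cj, cj_prod, cj_eq_self.2 (ha' f hf)] at h2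
        rw [eq_inv_mul_iff_mul_eq, ← h2] }
  have hle : Subgroup.closure S ≤ K := by
    rw [Subgroup.closure_le]
    intro s hs
    exact ⟨hSF s hs, h1 s hs y hy⟩
  exact (hle hx).2

theorem closure_sq {S : Set G} {F : Subgroup G} (hSF : ∀ s ∈ S, ∀ f ∈ F, s * f = f * s)
    (hS : ∀ s ∈ S, ∀ t ∈ S, ∃ f ∈ F, cj s t = f * t) (hsq : ∀ s ∈ S, s * s ∈ F) :
    ∀ x ∈ Subgroup.closure S, x * x ∈ F := by
  have hcen := closure_cent hSF
  have hcom := closure_comm hSF hS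
  intro x hx
  refine Subgroup.closure_induction (p := fun x _ => x * x ∈ F) hsq (by simp)
    (fun x y hx hy h1 h2 => ?_) (fun x hx h1 => ?_) hx
  · obtain ⟨f, hf, h3⟩ := hcom y hy x hx
    have h4 : y * x = f * x * y := by
      rw [← h3, cj]; simp [mul_assoc]
    have h5 : x * y * (x * y) = f * (x * x) * (y * y) := by
      calc x * y * (x * y) = x * (y * x) * y := by simp [mul_assoc]
        _ = x * (f * x * y) * y := by rw [h4]
        _ = x * f * x * (y * y) := by simp [mul_assoc]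
        _ = f * x * x * (y * y) := by rw [hcen x hx f hf]
        _ = f * (x * x) * (y * y) := by simp [mul_assoc]
    rw [h5]
    exact F.mul_mem (F.mul_mem hf h1) h2
  · rw [← mul_inv_rev]; exact F.inv_mem h1

variable {A T L B Q V Z D : Subgroup G}

/-- the generators of `W` -/
def Wset (L V : Subgroup G) (τ : G) : Set G := {x | x ∈ V ∨ ∃ l ∈ L, ∃ v ∈ V, x = cj l (cj τ v)}

/-- the group `W` generated by `V` and all `cj l (cj τ V)` -/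
def Wg (L V : Subgroup G) (τ : G) : Subgroup G := Subgroup.closure (Wset L V τ)

/-- the elements of `W` which are fixed by `L` modulo `V` -/
def CT (L V : Subgroup G) (τ : G) (w : G) : Prop := w ∈ Wg L V τ ∧ ∀ l ∈ L, ∃ v ∈ V, cj l w = v * w

theorem V_le_Wg {τ : G} : V ≤ Wg L V τ := fun _ hv => Subgroup.subset_closure (Or.inl hv)

theorem mem_Wg {τ l v : G} (hl : l ∈ L) (hv : v ∈ V) : cj l (cj τ v) ∈ Wg L V τ :=
  Subgroup.subset_closure (Or.inr ⟨l, hl, v, hv, rfl⟩)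

theorem mem_Wg' {τ v : G} (hv : v ∈ V) : cj τ v ∈ Wg L V τ := by
  have := mem_Wg (τ := τ) (L := L) L.one_mem hv
  rwa [cj_one] at this

theorem mem_Dm' {τ f : G} (hf : f ∈ Dm D τ) : ∃ d ∈ D, f = cj τ d :=
  ⟨cj τ⁻¹ f, mem_Dm.1 hf, (cj_cj_inv τ f).symm⟩

namespace Dat

variable (h : Dat A T L B Q V Z D)

include h

section

variable (hc : ∀ m < 1, ∀ w ∈ W A L m, Com V w)
variable {τ : G} (hτ : Mate A T L V D τ)

include hτ

theorem F_le {f : G} (hf : f ∈ Dm D τ) : f ∈ Z := by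
  obtain ⟨d, hd, rfl⟩ := mem_Dm' hf
  exact h.cjZ hτ.mem (h.DZ hd)

omit h in
theorem F_L {f l : G} (hf : f ∈ Dm D τ) (hl : l ∈ L) : cj l f = f := by
  obtain ⟨d, hd, rfl⟩ := mem_Dm' hf
  exact hτ.cent l hl d hd

include hc

theorem Wset_Q {x : G} (hx : x ∈ Wset L V τ) : x ∈ Q := by
  rcases hx with hx | ⟨l, hl, v, hv, rfl⟩
  · exact h.VQ hx
  · apply h.cjQ hl
    apply h.QcV _ (h.cjB hτ.mem (h.VB hv))
    intro u hu
    exact (hc 0 one_pos τ hτ.mem u hu v hv).symm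

theorem Wg_le_Q : Wg L V τ ≤ Q := by
  rw [Wg, Subgroup.closure_le]
  intro x hx
  exact h.Wset_Q hc hτ hx

theorem Wset_F {x : G} (hx : x ∈ Wset L V τ) : ∀ f ∈ Dm D τ, x * f = f * x := fun f hf =>
  h.VcQ x (h.Wset_Q hc hτ hx) f (h.ZV (h.F_le hτ hf))

theorem Wset_comm : ∀ s ∈ Wset L V τ, ∀ t ∈ Wset L V τ, ∃ f ∈ Dm D τ, cj s t = f * t := by
  intro s hs t ht
  have htQ := h.Wset_Q hc hτ ht
  have hsQ := h.Wset_Q hc hτ hs
  rcases hs with hs | ⟨l, hl, v, hv, rfl⟩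
  · refine ⟨1, (Dm D τ).one_mem, ?_⟩
    rw [one_mul, cj_eq_self]
    exact (h.VcQ t htQ s hs).symm
  · rcases ht with ht | ⟨l', hl', v', hv', rfl⟩
    · refine ⟨1, (Dm D τ).one_mem, ?_⟩
      rw [one_mul, cj_eq_self]
      exact h.VcQ _ hsQ t ht
    · have hw : τ⁻¹ * (l⁻¹ * l') * τ ∈ W A L 1 :=
        ⟨τ⁻¹, A.inv_mem hτ.mem, l⁻¹ * l', L.mul_mem (L.inv_mem hl) hl', τ, hτ.mem, rfl⟩
      have hb := h.memB' hc le_rfl hw hv'
      obtain ⟨d, hd, h1⟩ := h.comm' hv hb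
      refine ⟨cj τ d, cj_mem_Dm hd, ?_⟩
      have e : cj (cj l (cj τ v)) (cj l' (cj τ v')) =
          cj l (cj τ (cj v (cj (τ⁻¹ * (l⁻¹ * l') * τ) v'))) := by
        simp [cj, mul_assoc]
      have e2 : cj l (cj τ (cj (τ⁻¹ * (l⁻¹ * l') * τ) v')) = cj l' (cj τ v') := by
        simp [cj, mul_assoc]
      rw [e, h1, cj_prod, cj_prod, e2, hτ.cent l hl d hd]

theorem Wg_comm : ∀ x ∈ Wg L V τ, ∀ y ∈ Wg L V τ, ∃ f ∈ Dm D τ, cj x y = f * y :=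
  closure_comm (fun _ hs => h.Wset_F hc hτ hs) (h.Wset_comm hc hτ)

theorem Wg_sq : ∀ x ∈ Wg L V τ, x * x ∈ Dm D τ := by
  apply closure_sq (fun _ hs => h.Wset_F hc hτ hs) (h.Wset_comm hc hτ)
  rintro s (hs | ⟨l, hl, v, hv, rfl⟩)
  · rw [h.Vsq s hs]; exact (Dm D τ).one_mem
  · rw [← cj_prod, ← cj_prod, h.Vsq v hv]
    have : cj l (cj τ 1) = 1 := by simp [cj]
    rw [this]; exact (Dm D τ).one_mem

omit hc hτ in
theorem Wg_L {l x : G} (hl : l ∈ L) (hx : x ∈ Wg L V τ) : cj l x ∈ Wg L V τ := by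
  refine Data.closure_conj ?_ x hx
  rintro x (hx | ⟨l', hl', v, hv, rfl⟩)
  · exact V_le_Wg (h.cjV hl hx)
  · rw [← cj_mul]
    exact mem_Wg (L.mul_mem hl hl') hv

theorem Q_comm {q : G} (hq : q ∈ Q) : ∀ x ∈ Wg L V τ, ∃ f ∈ Dm D τ, cj q x = f * x := by
  apply closure_left (fun _ hs => h.Wset_F hc hτ hs)
  rintro s (hs | ⟨l, hl, v, hv, rfl⟩)
  · refine ⟨1, (Dm D τ).one_mem, ?_⟩
    rw [one_mul, cj_eq_self]
    exact h.VcQ q hq s hs
  · have hb : cj τ⁻¹ (cj l⁻¹ q) ∈ B := h.cjB (A.inv_mem hτ.mem) (h.QB (h.cjQ (L.inv_mem hl) hq))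
    obtain ⟨d, hd, h1⟩ := h.commB hv hb
    refine ⟨cj τ d, cj_mem_Dm hd, ?_⟩
    have e : cj q (cj l (cj τ v)) = cj l (cj τ (cj (cj τ⁻¹ (cj l⁻¹ q)) v)) := by
      simp [cj, mul_assoc]
    rw [e, h1, cj_prod, cj_prod, hτ.cent l hl d hd]

omit hc in
theorem B_comm {b : G} (hb : b ∈ B) {v : G} (hv : v ∈ V) :
    ∃ f ∈ Dm D τ, cj b (cj τ v) = f * cj τ v := by
  have hb' : cj τ⁻¹ b ∈ B := h.cjB (A.inv_mem hτ.mem) hb
  obtain ⟨d, hd, h1⟩ := h.commB hv hb'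
  refine ⟨cj τ d, cj_mem_Dm hd, ?_⟩
  have e : cj b (cj τ v) = cj τ (cj (cj τ⁻¹ b) v) := by simp [cj, mul_assoc]
  rw [e, h1, cj_prod]

end

section

variable [Finite G] (hc : ∀ m < 1, ∀ w ∈ W A L m, Com V w)
variable {τ : G} (hτ : Mate A T L V D τ) {w : G} (hw : w ∈ W A L 1) (hnc : ¬ Com V w)

include hc hτ hw hnc

theorem sq_V {v : G} (hv : v ∈ V) : cj τ (cj τ v) ∈ V := by
  have hi := h.mate_inv hc one_pos hτ hw hnc
  have := h.mate_V hi hτ hv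
  rwa [inv_inv, cj_mul] at this

theorem sq_V' {v : G} (hv : v ∈ V) : cj τ⁻¹ (cj τ⁻¹ v) ∈ V := by
  have hi := h.mate_inv hc one_pos hτ hw hnc
  have := h.mate_V hτ hi hv
  rwa [cj_mul] at this

theorem crit_word {m : G} (hm : m ∈ L) (hmv : Mv D Z m) : ¬ Com V (τ * m * τ) := by
  have := h.crit_pow hc one_pos hτ hw hnc hm hmv
  rw [pow_one, ← mul_assoc] at this
  exact this

theorem crit_tau {m : G} (hm : m ∈ L) (hmv : Mv D Z m) : ¬ Com V (τ⁻¹ * m * τ) := by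
  intro hcom
  apply h.crit_word hc hτ hw hnc hm hmv
  intro v hv u hu
  have h1 := hcom _ (h.sq_V' hc hτ hw hnc hv) u hu
  have h2 := (cj_comm (g := τ)).2 ((cj_comm (g := τ)).2 h1)
  have e1 : cj τ (cj τ (cj τ⁻¹ (cj τ⁻¹ v))) = v := by simp [cj, mul_assoc]
  have e2 : cj τ (cj τ (cj (τ⁻¹ * m * τ) u)) = cj (τ * m * τ) u := by simp [cj, mul_assoc]
  rwa [e1, e2] at h2

omit h hc hw hnc [Finite G] in
theorem word_mem {m : G} (hm : m ∈ L) : τ * m * τ ∈ W A L 1 :=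
  ⟨τ, hτ.mem, m, hm, τ, hτ.mem, rfl⟩

omit h hc hw hnc [Finite G] in
theorem word_mem' {m : G} (hm : m ∈ L) : τ⁻¹ * m * τ ∈ W A L 1 :=
  ⟨τ⁻¹, A.inv_mem hτ.mem, m, hm, τ, hτ.mem, rfl⟩

/-- an element of `W` commuting with `cj τ V` is centralised by `B` modulo `V` -/
theorem B_fix {x : G} (hx : x ∈ Wg L V τ) (hxc : ∀ u ∈ V, x * cj τ u = cj τ u * x) {b : G}
    (hb : b ∈ B) : ∃ v ∈ V, cj b x = v * x := by
  obtain ⟨m, hm, hmv⟩ := h.moves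
  obtain ⟨v, hv, q, hq, rfl⟩ :=
    h.crit_B hc (word_mem hτ hm) (h.crit_word hc hτ hw hnc hm hmv) hb
  obtain ⟨f, hf, h1⟩ := h.Q_comm hc hτ hq x hx
  -- the element `cj τ⁻¹ x` lies in `Q`
  have hxQ : cj τ⁻¹ x ∈ Q := by
    apply h.QcV _ (h.cjB (A.inv_mem hτ.mem) (h.QB (h.Wg_le_Q hc hτ hx)))
    intro u hu
    have := (cj_comm (g := τ⁻¹)).2 (hxc u hu)
    rwa [cj_inv_cj] at this
  obtain ⟨f', hf', h2⟩ := h.Q_comm hc hτ hxQ _ (mem_Wg (τ := τ) hm hv)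
  -- `cj (cj τ⁻¹ x) y = f' * y`, so `cj y (cj τ⁻¹ x) = f'⁻¹ * cj τ⁻¹ x`
  have h3 : cj (cj m (cj τ v)) (cj τ⁻¹ x) = f'⁻¹ * cj τ⁻¹ x := by
    set y := cj m (cj τ v)
    set z := cj τ⁻¹ x
    have h4 : z * y = f' * y * z := by rw [← h2, cj]; simp [mul_assoc]
    have h5 : y * z = f'⁻¹ * z * y := by rw [mul_assoc f'⁻¹ z y, h4]; simp [mul_assoc]
    rw [cj, h5]; simp
  have h6 : cj (cj (τ * m * τ) v) x = (cj τ f')⁻¹ * x := by
    have e : cj (cj (τ * m * τ) v) x = cj τ (cj (cj m (cj τ v)) (cj τ⁻¹ x)) := by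
      simp [cj, mul_assoc]
    rw [e, h3, cj_prod, cj_inv, cj_cj_inv]
  -- `cj τ f' ∈ D`
  have h7 : cj τ f' ∈ V := by
    obtain ⟨d, hd, rfl⟩ := mem_Dm' hf'
    exact h.sq_V hc hτ hw hnc (h.DV hd)
  refine ⟨cj (cj (τ * m * τ) v) f * (cj τ f')⁻¹, ?_, ?_⟩
  · apply V.mul_mem
    · apply h.cjV _ (h.ZV (h.F_le hτ hf))
      exact h.BL (h.memB' hc le_rfl (word_mem hτ hm) hv)
    · exact V.inv_mem h7
  · rw [cj_mul, h1, cj_prod, h6]
    simp only [mul_assoc]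

/-- `W = cj l₀ (cj τ V) * C_W(cj τ V)` -/
theorem dec {m : G} (hm : m ∈ L) (hmv : Mv D Z m) {x : G} (hx : x ∈ Wg L V τ) :
    ∃ y ∈ V, ∃ u ∈ Wg L V τ, x = cj m (cj τ y) * u ∧ (∀ v ∈ V, u * cj τ v = cj τ v * u) := by
  have hxB : cj τ⁻¹ x ∈ B := h.cjB (A.inv_mem hτ.mem) (h.QB (h.Wg_le_Q hc hτ hx))
  obtain ⟨y, hy, q, hq, h1⟩ :=
    h.crit_B hc (word_mem' hτ hm) (h.crit_tau hc hτ hw hnc hm hmv) hxB
  have h2 : x = cj m (cj τ y) * cj τ q := by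
    have := congrArg (cj τ) h1
    rw [cj_cj_inv, cj_prod] at this
    rw [this]; simp [cj, mul_assoc]
  refine ⟨y, hy, cj τ q, ?_, h2, fun v hv => cj_comm.2 (h.VcQ q hq v hv)⟩
  have h3 : cj τ q = (cj m (cj τ y))⁻¹ * x := by rw [h2]; simp
  rw [h3]
  exact (Wg L V τ).mul_mem ((Wg L V τ).inv_mem (mem_Wg hm hy)) hx

/-- `W = cj τ V * C_W(cj l₀ (cj τ V))` -/
theorem dec' {m : G} (hm : m ∈ L) (hmv : Mv D Z m) {x : G} (hx : x ∈ Wg L V τ) :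
    ∃ y ∈ V, ∃ u ∈ Wg L V τ, x = cj τ y * u ∧
      (∀ v ∈ V, u * cj m (cj τ v) = cj m (cj τ v) * u) := by
  obtain ⟨y, hy, u, hu, h1, h2⟩ := h.dec hc hτ hw hnc (L.inv_mem hm) (h.mvinv m hm hmv)
    (h.Wg_L (L.inv_mem hm) hx)
  refine ⟨y, hy, cj m u, h.Wg_L hm hu, ?_, fun v hv => cj_comm.2 (h2 v hv)⟩
  have := congrArg (cj m) h1
  rw [cj_cj_inv, cj_prod, cj_cj_inv] at this
  exact this

/-- the complete decomposition -/
theorem dec2 {m : G} (hm : m ∈ L) (hmv : Mv D Z m) {x : G} (hx : x ∈ Wg L V τ) :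
    ∃ y ∈ V, ∃ z ∈ V, ∃ u ∈ Wg L V τ, x = cj m (cj τ y) * cj τ z * u ∧
      (∀ v ∈ V, u * cj τ v = cj τ v * u) ∧
      (∀ v ∈ V, u * cj m (cj τ v) = cj m (cj τ v) * u) := by
  obtain ⟨y, hy, u, hu, h1, h2⟩ := h.dec hc hτ hw hnc hm hmv hx
  obtain ⟨z, hz, u', hu', h3, h4⟩ := h.dec' hc hτ hw hnc hm hmv hu
  refine ⟨y, hy, z, hz, u', hu', by rw [h1, h3, mul_assoc], ?_, h4⟩
  intro v hv
  have h5 : u' = (cj τ z)⁻¹ * u := by rw [h3]; simp
  rw [h5]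
  have k1 : Commute u (cj τ v) := h2 v hv
  have k2 : Commute (cj τ z) (cj τ v) := by
    have : z * v = v * z := h.VcQ z (h.VQ hz) v hv
    exact cj_comm.2 this
  exact (k2.inv_left).mul_left k1

omit hc hτ hw hnc [Finite G] in
theorem CT_of_gen {m : G} (hm : m ∈ L) (hmv : Mv D Z m) {x : G} (hx : x ∈ Wg L V τ)
    (h1 : ∀ b ∈ B, ∃ v ∈ V, cj b x = v * x) (h2 : ∀ b ∈ B, ∃ v ∈ V, cj (m * b * m⁻¹) x = v * x) :
    CT L V τ x := by
  refine ⟨hx, ?_⟩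
  let K : Subgroup G :=
    { carrier := {l | l ∈ L ∧ ∃ v ∈ V, cj l x = v * x}
      one_mem' := ⟨L.one_mem, 1, V.one_mem, by rw [cj_one, one_mul]⟩
      mul_mem' := by
        rintro a b ⟨ha, v, hv, h3⟩ ⟨hb, v', hv', h4⟩
        refine ⟨L.mul_mem ha hb, cj a v' * v, V.mul_mem (h.cjV ha hv') hv, ?_⟩
        rw [cj_mul, h4, cj_prod, h3, mul_assoc]
      inv_mem' := by
        rintro a ⟨ha, v, hv, h3⟩
        refine ⟨L.inv_mem ha, (cj a⁻¹ v)⁻¹, V.inv_mem (h.cjV (L.inv_mem ha) hv), ?_⟩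
        have := congrArg (cj a⁻¹) h3
        rw [cj_inv_cj, cj_prod] at this
        rw [eq_inv_mul_iff_mul_eq, ← this] }
  have hK : L ≤ K := by
    apply h.gen m hm hmv K
    · intro b hb
      exact ⟨h.BL hb, h1 b hb⟩
    · intro b hb
      exact ⟨L.mul_mem (L.mul_mem hm (h.BL hb)) (L.inv_mem hm), h2 b hb⟩
  intro l hl
  exact (hK hl).2

theorem CT_of_cent {m : G} (hm : m ∈ L) (hmv : Mv D Z m) {x : G} (hx : x ∈ Wg L V τ)
    (h1 : ∀ v ∈ V, x * cj τ v = cj τ v * x)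
    (h2 : ∀ v ∈ V, x * cj m (cj τ v) = cj m (cj τ v) * x) : CT L V τ x := by
  apply h.CT_of_gen hm hmv hx
  · intro b hb
    exact h.B_fix hc hτ hw hnc hx h1 hb
  · intro b hb
    have h3 : ∀ v ∈ V, cj m⁻¹ x * cj τ v = cj τ v * cj m⁻¹ x := by
      intro v hv
      have := (cj_comm (g := m⁻¹)).2 (h2 v hv)
      rwa [cj_inv_cj] at this
    obtain ⟨v, hv, h4⟩ := h.B_fix hc hτ hw hnc (h.Wg_L (L.inv_mem hm) hx) h3 hb
    refine ⟨cj m v, h.cjV hm hv, ?_⟩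
    rw [cj_mul, cj_mul, h4, cj_prod, cj_cj_inv]

omit hc hτ hw hnc [Finite G] in
theorem CT_V {v : G} (hv : v ∈ V) : CT L V τ v :=
  ⟨V_le_Wg hv, fun l hl => ⟨cj l v * v⁻¹, V.mul_mem (h.cjV hl hv) (V.inv_mem hv), by simp⟩⟩

omit hw hnc [Finite G] in
theorem CT_mul {x y : G} (hx : CT L V τ x) (hy : CT L V τ y) : CT L V τ (x * y) := by
  refine ⟨(Wg L V τ).mul_mem hx.1 hy.1, fun l hl => ?_⟩
  obtain ⟨v, hv, h1⟩ := hx.2 l hl
  obtain ⟨v', hv', h2⟩ := hy.2 l hl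
  refine ⟨v * v', V.mul_mem hv hv', ?_⟩
  have h3 : x * v' = v' * x := h.VcQ x (h.Wg_le_Q hc hτ hx.1) v' hv'
  rw [cj_prod, h1, h2]
  calc v * x * (v' * y) = v * (x * v') * y := by simp [mul_assoc]
    _ = v * (v' * x) * y := by rw [h3]
    _ = v * v' * (x * y) := by simp [mul_assoc]

omit hw hnc [Finite G] in
theorem CT_inv {x : G} (hx : CT L V τ x) : CT L V τ x⁻¹ := by
  refine ⟨(Wg L V τ).inv_mem hx.1, fun l hl => ?_⟩
  obtain ⟨v, hv, h1⟩ := hx.2 l hl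
  refine ⟨v⁻¹, V.inv_mem hv, ?_⟩
  have h3 : x⁻¹ * v⁻¹ = v⁻¹ * x⁻¹ :=
    h.VcQ x⁻¹ (Q.inv_mem (h.Wg_le_Q hc hτ hx.1)) v⁻¹ (V.inv_mem hv)
  rw [cj_inv, h1, mul_inv_rev, h3]

omit hc hτ hw hnc [Finite G] in
theorem CT_L {x l : G} (hx : CT L V τ x) (hl : l ∈ L) : CT L V τ (cj l x) := by
  refine ⟨h.Wg_L hl hx.1, fun k hk => ?_⟩
  obtain ⟨v, hv, h1⟩ := hx.2 l hl
  obtain ⟨v', hv', h2⟩ := hx.2 (k * l) (L.mul_mem hk hl)
  refine ⟨v' * v⁻¹, V.mul_mem hv' (V.inv_mem hv), ?_⟩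
  rw [← cj_mul, h2, h1]; simp [mul_assoc]

/-- `C~` centralises `cj τ V` -/
theorem CT_comm {x : G} (hx : CT L V τ x) {v : G} (hv : v ∈ V) : x * cj τ v = cj τ v * x := by
  obtain ⟨m, hm, hmv⟩ := h.moves
  obtain ⟨y, hy, u, hu, h1, h2⟩ := h.dec hc hτ hw hnc hm hmv hx.1
  -- `y' := cj m (cj τ y)` lies in `C~`
  have hy' : CT L V τ (cj m (cj τ y)) := by
    apply h.CT_of_gen hm hmv (mem_Wg hm hy)
    · intro b hb
      obtain ⟨v₁, hv₁, h3⟩ := hx.2 b (h.BL hb)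
      obtain ⟨v₂, hv₂, h4⟩ := h.B_fix hc hτ hw hnc hu h2 hb
      refine ⟨v₁ * v₂⁻¹, V.mul_mem hv₁ (V.inv_mem hv₂), ?_⟩
      have h5 : cj m (cj τ y) = x * u⁻¹ := by rw [h1]; simp
      have h6 : u⁻¹ * v₂⁻¹ = v₂⁻¹ * u⁻¹ :=
        h.VcQ u⁻¹ (Q.inv_mem (h.Wg_le_Q hc hτ hu)) v₂⁻¹ (V.inv_mem hv₂)
      have h7 : x * v₂⁻¹ = v₂⁻¹ * x := h.VcQ x (h.Wg_le_Q hc hτ hx.1) v₂⁻¹ (V.inv_mem hv₂)
      rw [h5, cj_prod, cj_inv, h3, h4, mul_inv_rev, h6]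
      calc v₁ * x * (v₂⁻¹ * u⁻¹) = v₁ * (x * v₂⁻¹) * u⁻¹ := by simp [mul_assoc]
        _ = v₁ * (v₂⁻¹ * x) * u⁻¹ := by rw [h7]
        _ = v₁ * v₂⁻¹ * (x * u⁻¹) := by simp [mul_assoc]
    · intro b hb
      obtain ⟨f, hf, h3⟩ := h.B_comm hτ hb hy
      refine ⟨f, h.ZV (h.F_le hτ hf), ?_⟩
      rw [cj_mul, cj_mul, cj_inv_cj, h3, cj_prod, F_L hτ hf hm]
  obtain ⟨v₁, hv₁, h3⟩ := hy'.2 m⁻¹ (L.inv_mem hm)
  rw [cj_inv_cj] at h3
  have h4 : cj m (cj τ y) = v₁⁻¹ * cj τ y := by rw [eq_inv_mul_iff_mul_eq, ← h3]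
  rw [h1, h4]
  have k1 : Commute v₁ (cj τ v) := hc 0 one_pos τ hτ.mem v₁ hv₁ v hv
  have k2 : Commute (cj τ y) (cj τ v) := cj_comm.2 (h.VcQ y (h.VQ hy) v hv)
  have k3 : Commute u (cj τ v) := h2 v hv
  exact (k1.inv_left.mul_left k2).mul_left k3

/-- `C~` is central in `W` -/
theorem CT_central {x : G} (hx : CT L V τ x) {y : G} (hy : y ∈ Wg L V τ) : x * y = y * x := by
  have hle : Wg L V τ ≤ Subgroup.centralizer {x} := by
    rw [Wg, Subgroup.closure_le]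
    rintro y (hy | ⟨l, hl, v, hv, rfl⟩)
    · rw [SetLike.mem_coe, Subgroup.mem_centralizer_iff]
      intro z hz
      rw [Set.mem_singleton_iff] at hz
      rw [hz]
      exact h.VcQ x (h.Wg_le_Q hc hτ hx.1) y hy
    · rw [SetLike.mem_coe, Subgroup.mem_centralizer_iff]
      intro z hz
      rw [Set.mem_singleton_iff] at hz
      rw [hz]
      have h1 := h.CT_comm hc hτ hw hnc (h.CT_L hx (L.inv_mem hl)) hv
      have h2 := (cj_comm (g := l)).2 h1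
      rwa [cj_cj_inv] at h2
  exact Subgroup.mem_centralizer_iff.1 (hle hy) x rfl

/-- squares of elements of `C~` -/
theorem CT_sq {c : G} (hcT : CT L V τ c) :
    ∃ d ∈ D, (∀ l ∈ L, cj l d = d) ∧ c * c = cj τ d := by
  obtain ⟨m, hm, hmv⟩ := h.moves
  obtain ⟨d, hd, hcd⟩ := mem_Dm' (h.Wg_sq hc hτ c hcT.1)
  refine ⟨d, hd, ?_, hcd⟩
  -- `cj τ⁻¹ c ∈ Q`
  have hcQ : cj τ⁻¹ c ∈ Q := by
    apply h.QcV _ (h.cjB (A.inv_mem hτ.mem) (h.QB (h.Wg_le_Q hc hτ hcT.1)))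
    intro u hu
    have := (cj_comm (g := τ⁻¹)).2 (h.CT_comm hc hτ hw hnc hcT hu)
    rwa [cj_inv_cj] at this
  have hb0 : cj τ⁻¹ (cj m⁻¹ (cj τ⁻¹ c)) ∈ B :=
    h.cjB (A.inv_mem hτ.mem) (h.QB (h.cjQ (L.inv_mem hm) hcQ))
  have hcr := h.crit_word hc hτ hw hnc hm hmv
  have hcr' : ¬ Com V (τ * m * τ)⁻¹ := fun hcom => hcr hcom.of_inv
  obtain ⟨v, hv, q, hq, h1⟩ := h.crit_B hc (W_inv (word_mem hτ hm)) hcr' hb0
  have h2 : c = v * cj (τ * m * τ) q := by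
    have := congrArg (cj (τ * m * τ)) h1
    rw [cj_prod, cj_cj_inv] at this
    rw [← this]; simp [cj, mul_assoc]
  -- the square
  have hvc : v * c = c * v := (h.VcQ c (h.Wg_le_Q hc hτ hcT.1) v hv).symm
  have h3 : cj (τ * m * τ) q = v⁻¹ * c := by rw [h2]; simp
  have h4 : c * c = cj (τ * m * τ) (q * q) := by
    rw [cj_prod, h3]
    have h5 : v⁻¹ * c = c * v⁻¹ := by
      have : Commute v⁻¹ c := Commute.inv_left hvc
      exact this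
    calc c * c = c * (v * v)⁻¹ * c := by rw [h.Vsq v hv]; simp
      _ = (c * v⁻¹) * (v⁻¹ * c) := by simp [mul_assoc]
      _ = v⁻¹ * c * (v⁻¹ * c) := by rw [h5]
  -- `q = cj m (cj τ b)`
  have hb : cj τ⁻¹ (cj m⁻¹ q) ∈ B := h.cjB (A.inv_mem hτ.mem) (h.QB (h.cjQ (L.inv_mem hm) hq))
  set b := cj τ⁻¹ (cj m⁻¹ q) with hbdef
  have hqb : q = cj m (cj τ b) := by rw [hbdef, cj_cj_inv, cj_cj_inv]
  have hbb : b * b ∈ Q := h.Bsq b hb
  have h6 : d = cj m (cj τ (cj m (cj τ (b * b)))) := by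
    have h7 : cj τ d = cj τ (cj m (cj τ (cj m (cj τ (b * b))))) := by
      rw [← hcd, h4, hqb]
      simp [cj, mul_assoc]
    exact cj_inj h7
  -- `cj m⁻¹ d` lies in `Z`
  have hdZ : cj m⁻¹ d ∈ Z := by
    apply h.crit_Z hc (word_mem hτ hm) hcr (h.cjV (L.inv_mem hm) (h.DV hd))
    intro u hu
    have h8 : cj m⁻¹ d = cj (τ * m * τ) (b * b) := by
      rw [h6]; simp [cj, mul_assoc]
    rw [h8]
    exact cj_comm.2 (h.VcQ _ hbb u hu)
  intro l hl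
  have hLc : L ≤ Subgroup.centralizer {d} := by
    apply h.gen m hm hmv
    · intro b hb
      rw [Subgroup.mem_centralizer_iff]
      intro y hy
      rw [Set.mem_singleton_iff] at hy
      rw [hy]
      exact (h.BcZ b hb d (h.DZ hd)).symm
    · intro b hb
      rw [Subgroup.mem_centralizer_iff]
      intro y hy
      rw [Set.mem_singleton_iff] at hy
      rw [hy]
      have := (cj_comm (g := m)).2 (h.BcZ b hb _ hdZ)
      rw [cj_cj_inv] at this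
      exact this.symm
  rw [cj_eq_self]
  exact (Subgroup.mem_centralizer_iff.1 (hLc hl) d rfl).symm

/-- `B` moves `y` onto the whole coset -/
theorem cover {m : G} (hm : m ∈ L) (hmv : Mv D Z m) {y : G} (hy : y ∈ V) (hyZ : y ∉ Z) {x : G}
    (hx : x ∈ V) :
    ∃ b ∈ B, CT L V τ ((cj m (cj τ y) * cj τ x)⁻¹ * cj b (cj m (cj τ y))) := by
  classical
  -- decomposition of `y⁻¹ * cj b y`
  have hdec : ∀ b : B, ∃ x : V,
      CT L V τ ((cj m (cj τ y) * cj τ (x : G))⁻¹ * cj (b : G) (cj m (cj τ y))) := by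
    rintro ⟨b, hb⟩
    have hbL := h.BL hb
    have hyW : cj m (cj τ y) ∈ Wg L V τ := mem_Wg hm hy
    obtain ⟨x, hx, u, hu, h1, h2⟩ := h.dec' hc hτ hw hnc hm hmv
      ((Wg L V τ).mul_mem ((Wg L V τ).inv_mem hyW) (h.Wg_L hbL hyW))
    refine ⟨⟨x, hx⟩, ?_⟩
    have h3 : (cj m (cj τ y) * cj τ x)⁻¹ * cj b (cj m (cj τ y)) = u := by
      rw [mul_inv_rev, mul_assoc, h1]; simp
    show CT L V τ ((cj m (cj τ y) * cj τ x)⁻¹ * cj b (cj m (cj τ y)))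
    rw [h3]
    apply h.CT_of_cent hc hτ hw hnc hm hmv hu _ h2
    intro v hv
    -- `y⁻¹ * cj b y` commutes with `cj τ v`
    set y' := cj m (cj τ y) with hy'
    have h4 : cj (y'⁻¹ * cj b y') (cj τ v) = cj τ v := by
      obtain ⟨f₁, hf₁, k1⟩ := h.Wg_comm hc hτ y' hyW (cj τ v) (mem_Wg' hv)
      obtain ⟨f₂, hf₂, k2⟩ := h.B_comm hτ (B.inv_mem hb) hv
      have k3 : cj y' f₂ = f₂ :=
        cj_eq_self.2 (h.VcQ _ (h.Wg_le_Q hc hτ hyW) _ (h.ZV (h.F_le hτ hf₂)))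
      have k4 : cj b f₁ = f₁ := cj_eq_self.2 (h.BcZ b hb _ (h.F_le hτ hf₁))
      have k5 : f₂ * f₁ = f₁ * f₂ :=
        h.VcQ _ (h.VQ (h.ZV (h.F_le hτ hf₂))) _ (h.ZV (h.F_le hτ hf₁))
      have e : cj (y'⁻¹ * cj b y') (cj τ v) = cj y'⁻¹ (cj b (cj y' (cj b⁻¹ (cj τ v)))) := by
        simp [cj, mul_assoc]
      rw [e, k2, cj_prod, k3, k1, ← mul_assoc, k5, mul_assoc, cj_prod, k4, ← k2, cj_cj_inv, ← k1,
        cj_inv_cj]
    have h5 : u = (cj τ x)⁻¹ * (y'⁻¹ * cj b y') := by rw [h1]; simp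
    have k1 : Commute (y'⁻¹ * cj b y') (cj τ v) := cj_eq_self.1 h4
    have k2 : Commute (cj τ x) (cj τ v) := cj_comm.2 (h.VcQ x (h.VQ hx) v hv)
    rw [h5]
    exact k2.inv_left.mul_left k1
  choose f hf using hdec
  let g : B ⧸ Q.subgroupOf B → V ⧸ Z.subgroupOf V := fun q => Quotient.mk'' (f (Quotient.out q))
  have hg : Function.Injective g := by
    intro q₁ q₂ hq
    have hq' : (Quotient.mk'' (f (Quotient.out q₁)) : V ⧸ Z.subgroupOf V) =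
      Quotient.mk'' (f (Quotient.out q₂)) := hq
    rw [Quotient.eq'', QuotientGroup.leftRel_apply, Subgroup.mem_subgroupOf] at hq'
    rw [← Quotient.out_eq' q₁, ← Quotient.out_eq' q₂, Quotient.eq'', QuotientGroup.leftRel_apply,
      Subgroup.mem_subgroupOf]
    set b₁ := Quotient.out q₁
    set b₂ := Quotient.out q₂
    by_contra hbQ
    apply hyZ
    have hbB : (b₁ : G)⁻¹ * b₂ ∈ B := B.mul_mem (B.inv_mem b₁.2) b₂.2
    have hmv' := h.ti m hm hmv _ hbB (by simpa using hbQ)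
    have hmL : m⁻¹ * ((b₁ : G)⁻¹ * b₂) * m ∈ L :=
      L.mul_mem (L.mul_mem (L.inv_mem hm) (h.BL hbB)) hm
    apply h.crit_Z hc (word_mem' hτ hmL) (h.crit_tau hc hτ hw hnc hmL hmv') hy
    intro u hu
    have c1 := hf b₁
    have c2 := hf b₂
    set c₁ := (cj m (cj τ y) * cj τ (f b₁ : G))⁻¹ * cj (b₁ : G) (cj m (cj τ y)) with hc₁
    set c₂ := (cj m (cj τ y) * cj τ (f b₂ : G))⁻¹ * cj (b₂ : G) (cj m (cj τ y)) with hc₂
    have hz : CT L V τ (cj τ ((f b₁ : G)⁻¹ * (f b₂ : G))) :=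
      h.CT_V (h.ZV (h.cjZ hτ.mem (by simpa using hq')))
    have hc' : CT L V τ (c₁⁻¹ * cj τ ((f b₁ : G)⁻¹ * (f b₂ : G)) * c₂) :=
      h.CT_mul hc hτ (h.CT_mul hc hτ (h.CT_inv hc hτ c1) hz) c2
    set c := c₁⁻¹ * cj τ ((f b₁ : G)⁻¹ * (f b₂ : G)) * c₂ with hcdef
    have e1 : cj (b₂ : G) (cj m (cj τ y)) = cj (b₁ : G) (cj m (cj τ y)) * c := by
      rw [hcdef, hc₁, hc₂, cj_prod τ, cj_inv τ]
      simp [mul_assoc]
    have e2 : cj (b₁ : G) (cj m (cj τ y)) = cj (b₂ : G) (cj m (cj τ y)) * c⁻¹ := by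
      rw [e1]; simp
    -- `cj b₁ y'` commutes with `cj b₂ u'`
    have k1 : Commute (cj (b₂ : G) (cj m (cj τ y))) (cj (b₂ : G) (cj m (cj τ u))) :=
      cj_comm.2 (cj_comm.2 (cj_comm.2 (h.VcQ y (h.VQ hy) u hu)))
    have k2 : Commute c (cj (b₂ : G) (cj m (cj τ u))) :=
      h.CT_central hc hτ hw hnc hc' (h.Wg_L (h.BL b₂.2) (mem_Wg hm hu))
    have k3 : Commute (cj (b₁ : G) (cj m (cj τ y))) (cj (b₂ : G) (cj m (cj τ u))) := by
      rw [e2]; exact k1.mul_left k2.inv_left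
    have k4 := (cj_comm (g := τ⁻¹)).2 ((cj_comm (g := m⁻¹)).2
      ((cj_comm (g := (b₁ : G)⁻¹)).2 k3.eq))
    rw [cj_inv_cj, cj_inv_cj, cj_inv_cj] at k4
    have e3 : cj τ⁻¹ (cj m⁻¹ (cj (b₁ : G)⁻¹ (cj (b₂ : G) (cj m (cj τ u))))) =
        cj (τ⁻¹ * (m⁻¹ * ((b₁ : G)⁻¹ * b₂) * m) * τ) u := by
      simp [cj, mul_assoc]
    rw [e3] at k4
    exact k4
  have hbij := Function.Injective.bijective_of_nat_card_le hg
    (h.crit_card hc hw hnc)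
  obtain ⟨q, hq⟩ := hbij.2 (Quotient.mk'' ⟨x, hx⟩)
  have hq' : (Quotient.mk'' (f (Quotient.out q)) : V ⧸ Z.subgroupOf V) =
      Quotient.mk'' ⟨x, hx⟩ := hq
  rw [Quotient.eq'', QuotientGroup.leftRel_apply, Subgroup.mem_subgroupOf] at hq'
  set b := Quotient.out q
  refine ⟨b, b.2, ?_⟩
  have hz : CT L V τ (cj τ ((f b : G)⁻¹ * x))⁻¹ :=
    h.CT_inv hc hτ (h.CT_V (h.ZV (h.cjZ hτ.mem (by simpa using hq'))))
  have := h.CT_mul hc hτ hz (hf b)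
  have e : (cj τ ((f b : G)⁻¹ * x))⁻¹ * ((cj m (cj τ y) * cj τ (f b : G))⁻¹ *
      cj (b : G) (cj m (cj τ y))) = (cj m (cj τ y) * cj τ x)⁻¹ * cj (b : G) (cj m (cj τ y)) := by
    rw [cj_prod τ, cj_inv τ]
    simp [mul_assoc]
  rw [e] at this
  exact this

/-- all squares of elements of `W` -/
theorem all_sq {x : G} (hx : x ∈ Wg L V τ) :
    ∃ d ∈ D, (∀ l ∈ L, cj l d = d) ∧ x * x = cj τ d := by
  obtain ⟨m, hm, hmv⟩ := h.moves
  obtain ⟨y, hy, z, hz, u, hu, h1, h2, h3⟩ := h.dec2 hc hτ hw hnc hm hmv hx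
  have huT := h.CT_of_cent hc hτ hw hnc hm hmv hu h2 h3
  -- reduction: `x = t * c` with `t` an involution and `c ∈ C~`
  have key : ∀ t c : G, t ∈ Wg L V τ → t * t = 1 → CT L V τ c → x = t * c →
      ∃ d ∈ D, (∀ l ∈ L, cj l d = d) ∧ x * x = cj τ d := by
    intro t c ht htt hcT hxe
    obtain ⟨d, hd, hdL, hcd⟩ := h.CT_sq hc hτ hw hnc hcT
    refine ⟨d, hd, hdL, ?_⟩
    have h4 := h.CT_central hc hτ hw hnc hcT ht
    rw [hxe, ← hcd]
    calc t * c * (t * c) = t * (c * t) * c := by simp [mul_assoc]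
      _ = t * (t * c) * c := by rw [h4]
      _ = t * t * (c * c) := by simp [mul_assoc]
      _ = c * c := by rw [htt, one_mul]
  by_cases hyZ : y ∈ Z
  · have hyV : cj m (cj τ y) ∈ V := h.cjV hm (h.ZV (h.cjZ hτ.mem hyZ))
    have hyT := h.CT_V (τ := τ) hyV
    apply key (cj τ z) (cj m (cj τ y) * u) (mem_Wg' hz) _ (h.CT_mul hc hτ hyT huT)
    · rw [h1, h.CT_central hc hτ hw hnc hyT (mem_Wg' hz), mul_assoc]
    · rw [← cj_prod, h.Vsq z hz]; simp [cj]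
  · obtain ⟨b, hb, hcb⟩ := h.cover hc hτ hw hnc hm hmv hy hyZ hz
    have hyW : cj m (cj τ y) ∈ Wg L V τ := mem_Wg hm hy
    apply key (cj b (cj m (cj τ y)))
      (((cj m (cj τ y) * cj τ z)⁻¹ * cj b (cj m (cj τ y)))⁻¹ * u)
      (h.Wg_L (h.BL hb) hyW) _ (h.CT_mul hc hτ (h.CT_inv hc hτ hcb) huT)
    · rw [h1]; simp [mul_assoc]
    · rw [← cj_prod, ← cj_prod, ← cj_prod, h.Vsq y hy]; simp [cj]

end

/-- `b = 2` is impossible -/
theorem not_one [Finite G] (hc : ∀ m < 1, ∀ w ∈ W A L m, Com V w) {w : G} (hw : w ∈ W A L 1)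
    (hnc : ¬ Com V w) : False := by
  obtain ⟨τ, hτ⟩ := h.exists_mate hc one_pos hw hnc
  obtain ⟨m, hm, hmv⟩ := h.moves
  have key : Subgroup.closure {x | ∃ v ∈ V, ∃ b ∈ B, x = v * b * v⁻¹ * b⁻¹} ≤
      Subgroup.centralizer (L : Set G) := by
    rw [Subgroup.closure_le]
    rintro x ⟨v, hv, b, hb, rfl⟩
    rw [SetLike.mem_coe, Subgroup.mem_centralizer_iff]
    intro l hl
    obtain ⟨v', hv', q, hq, rfl⟩ :=
      h.crit_B hc (word_mem' hτ hm) (h.crit_tau hc hτ hw hnc hm hmv) hb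
    have hqv : q * v⁻¹ = v⁻¹ * q := h.VcQ q hq _ (V.inv_mem hv)
    set w₀ := τ⁻¹ * m * τ with hw₀
    have e1 : v * (cj w₀ v' * q) * v⁻¹ * (cj w₀ v' * q)⁻¹ =
        v * cj w₀ v' * v⁻¹ * (cj w₀ v')⁻¹ := by
      calc v * (cj w₀ v' * q) * v⁻¹ * (cj w₀ v' * q)⁻¹
          = v * cj w₀ v' * (q * v⁻¹) * q⁻¹ * (cj w₀ v')⁻¹ := by simp [mul_assoc]
        _ = v * cj w₀ v' * (v⁻¹ * q) * q⁻¹ * (cj w₀ v')⁻¹ := by rw [hqv]
        _ = v * cj w₀ v' * v⁻¹ * (cj w₀ v')⁻¹ := by simp [mul_assoc]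
    have hX : (cj τ v)⁻¹ = cj τ v := by rw [← cj_inv, h.Vinv hv]
    have hY : (cj m (cj τ v'))⁻¹ = cj m (cj τ v') := by rw [← cj_inv, ← cj_inv, h.Vinv hv']
    obtain ⟨d, hd, hdL, hsq⟩ := h.all_sq hc hτ hw hnc
      ((Wg L V τ).mul_mem (mem_Wg' hv) (mem_Wg hm hv'))
    have e2 : cj τ (v * cj w₀ v' * v⁻¹ * (cj w₀ v')⁻¹) =
        cj τ v * cj m (cj τ v') * (cj τ v)⁻¹ * (cj m (cj τ v'))⁻¹ := by
      simp [cj, mul_assoc, hw₀]
    have e3 : v * cj w₀ v' * v⁻¹ * (cj w₀ v')⁻¹ = d := by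
      apply cj_inj (g := τ)
      rw [e2, hX, hY, ← hsq]
      simp [mul_assoc]
    rw [e1, e3]
    exact cj_eq_self.1 (hdL l hl)
  obtain ⟨d, hd, hdZ⟩ := hmv
  apply hdZ
  have h1 := Subgroup.mem_centralizer_iff.1 (key (h.Dgen hd)) m hm
  rw [cj_eq_self.2 h1]
  exact h.DZ hd

/-- **Pushing up**: `V` does not commute with some conjugate under `A`. -/
theorem exists_noncommuting [Finite G] :
    ∃ t ∈ A, ∃ v ∈ V, ∃ u ∈ V, v * (t * u * t⁻¹) ≠ (t * u * t⁻¹) * v := by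
  classical
  by_contra hcon
  push Not at hcon
  -- some word is critical
  have hex : ∃ n, ∃ w ∈ W A L n, ¬ Com V w := by
    by_contra hall
    push Not at hall
    -- the normal closure
    let R : Subgroup G := Subgroup.closure {x | ∃ n, ∃ w ∈ W A L n, ∃ v ∈ V, x = cj w v}
    have hRB : R ≤ B := by
      rw [Subgroup.closure_le]
      rintro x ⟨n, w, hw, v, hv, rfl⟩
      exact h.memB' (n := n) (fun m _ w hw => hall m w hw) le_rfl hw hv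
    have h1 : R = ⊥ := by
      apply h.core R hRB
      · intro l hl
        apply Data.closure_conj
        rintro x ⟨n, w, hw, v, hv, rfl⟩
        rw [← cj_mul]
        refine Subgroup.subset_closure ⟨n + 1, l * w, ?_, v, hv, rfl⟩
        have := W_cons hw hl A.one_mem
        rwa [one_mul] at this
      · intro a ha
        apply Data.closure_conj
        rintro x ⟨n, w, hw, v, hv, rfl⟩
        rw [← cj_mul]
        exact Subgroup.subset_closure ⟨n, a * w, W_mul_left hw ha, v, hv, rfl⟩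
    obtain ⟨d, hd, hd1⟩ := h.exists_ne
    have h2 : d ∈ R := by
      refine Subgroup.subset_closure ⟨0, 1, A.one_mem, d, h.DV hd, ?_⟩
      rw [cj_one]
    rw [h1] at h2
    exact hd1 (by simpa using h2)
  obtain ⟨w, hw, hnc⟩ := Nat.find_spec hex
  have hmin : ∀ m < Nat.find hex, ∀ w ∈ W A L m, Com V w := by
    intro m hm w hw
    by_contra hcw
    exact Nat.find_min hex hm ⟨w, hw, hcw⟩
  have h0 : Nat.find hex ≠ 0 := by
    intro h0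
    rw [h0] at hw
    exact hnc (fun v hv u hu => hcon w hw v hv u hu)
  rcases Nat.lt_or_ge 1 (Nat.find hex) with h1 | h1
  · exact h.not_two_le hmin h1 hw hnc
  · have h2 : Nat.find hex = 1 := by omega
    rw [h2] at hmin hw
    exact h.not_one hmin hw hnc

/-- if `V` does not commute with `V ^ t`, then `t` normalises `D` -/
theorem noncomm_D [Finite G] {t v u : G} (ht : t ∈ A) (hv : v ∈ V) (hu : u ∈ V)
    (hne : v * (t * u * t⁻¹) ≠ (t * u * t⁻¹) * v) {d : G} (hd : d ∈ D) : t * d * t⁻¹ ∈ D := by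
  have hc : ∀ m < 0, ∀ w ∈ W A L m, Com V w := fun m hm => absurd hm (Nat.not_lt_zero m)
  exact h.crit_D hc (show t ∈ W A L 0 from ht) (fun hcom => hne (hcom v hv u hu)) hd

/-- if `V` does not commute with `V ^ t`, then `V ^ t` covers `B / Q` -/
theorem noncomm_B [Finite G] {t v u : G} (ht : t ∈ A) (hv : v ∈ V) (hu : u ∈ V)
    (hne : v * (t * u * t⁻¹) ≠ (t * u * t⁻¹) * v) {b : G} (hb : b ∈ B) :
    ∃ v ∈ V, ∃ q ∈ Q, b = t * v * t⁻¹ * q := by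
  have hc : ∀ m < 0, ∀ w ∈ W A L m, Com V w := fun m hm => absurd hm (Nat.not_lt_zero m)
  exact h.crit_B hc (show t ∈ W A L 0 from ht) (fun hcom => hne (hcom v hv u hu)) hb

/-- if `V` does not commute with `V ^ t`, then the centraliser of `V ^ t` in `V` is `Z` -/
theorem noncomm_Z {t v u : G} (ht : t ∈ A) (hv : v ∈ V) (hu : u ∈ V)
    (hne : v * (t * u * t⁻¹) ≠ (t * u * t⁻¹) * v) {x : G} (hx : x ∈ V)
    (hxc : ∀ u ∈ V, x * (t * u * t⁻¹) = (t * u * t⁻¹) * x) : x ∈ Z := by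
  have hc : ∀ m < 0, ∀ w ∈ W A L m, Com V w := fun m hm => absurd hm (Nat.not_lt_zero m)
  exact h.crit_Z hc (show t ∈ W A L 0 from ht) (fun hcom => hne (hcom v hv u hu)) hx hxc

end Dat

end Cfsg.Agent.Omega.PushUp
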