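import Cfsg.Agent.MinSimple.PushUp
import Mathlib.GroupTheory.Index

/-!
# Pushing up for 2-groups, general form

`T` has index at most two in the group `A`, `B` is normal in `A`, `L` is a "block" over `B`: it
normalises the elementary abelian group `V` and `Q = C_B(V)`; `[V, B] = D ≤ Z ≤ V`,
`C_V(b) = Z` for all `b ∈ B ∖ Q` and `|B : Q| ≤ |V : Z|`.  If no nontrivial subgroup of `B` is
normalised by `L` and by `A`, then `V` does not commute with some `A`-conjugate.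

This generalises `Cfsg.Agent.MinSimple.PushUp` (where `D` has order two and `L / Q` is dihedral).
This file excludes `b ≥ 3` (distance of the first noncommuting pair); `b = 2` and the theorem are
in `Cfsg.Agent.Omega.PushUp.Last`.

(Text: `blueprints/OMEGA-SQ1-helper603.md`, section 3; bb P21 row 1789 of helper522.)
-/

set_option autoImplicit false

namespace Cfsg.Agent.Omega.PushUp

open Cfsg.Agent.MinSimple.PushUp

variable {G : Type*} [Group G]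

/-- the moving elements of `L` -/
def Mv (D Z : Subgroup G) (l : G) : Prop := ∃ d ∈ D, cj l d ∉ Z

/-- The hypotheses of the pushing up theorem. -/
structure Dat (A T L B Q V Z D : Subgroup G) : Prop where
  TA : T ≤ A
  idx : ∀ a ∈ A, ∀ b ∈ A, a ∉ T → b ∉ T → a⁻¹ * b ∈ T
  BT : B ≤ T
  BL : B ≤ L
  QB : Q ≤ B
  VQ : V ≤ Q
  ZV : Z ≤ V
  DZ : D ≤ Z
  AnB : ∀ a ∈ A, ∀ b ∈ B, a * b * a⁻¹ ∈ B
  AnZ : ∀ a ∈ A, ∀ b ∈ Z, a * b * a⁻¹ ∈ Z
  LnQ : ∀ l ∈ L, ∀ q ∈ Q, l * q * l⁻¹ ∈ Q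
  LnV : ∀ l ∈ L, ∀ v ∈ V, l * v * l⁻¹ ∈ V
  BcZ : ∀ b ∈ B, ∀ y ∈ Z, b * y = y * b
  Vsq : ∀ v ∈ V, v * v = 1
  QcV : ∀ b ∈ B, (∀ v ∈ V, b * v = v * b) → b ∈ Q
  VcQ : ∀ q ∈ Q, ∀ v ∈ V, q * v = v * q
  Bsq : ∀ b ∈ B, b * b ∈ Q
  comm : ∀ v ∈ V, ∀ b ∈ B, v * b * v⁻¹ * b⁻¹ ∈ D
  Dgen : D ≤ Subgroup.closure {x | ∃ v ∈ V, ∃ b ∈ B, x = v * b * v⁻¹ * b⁻¹}
  ncomm : ∀ v ∈ V, v ∉ Z → ∀ b ∈ B, b ∉ Q → v * b ≠ b * v
  card : Q.relIndex B ≤ Z.relIndex V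
  gen : ∀ l ∈ L, Mv D Z l → ∀ K : Subgroup G, B ≤ K → (∀ b ∈ B, l * b * l⁻¹ ∈ K) → L ≤ K
  moves : ∃ l ∈ L, Mv D Z l
  mvinv : ∀ l ∈ L, Mv D Z l → Mv D Z l⁻¹
  side : ∀ t ∈ T, ∀ l ∈ L, ∀ v ∈ V,
    l * (t * v * t⁻¹) * l⁻¹ ∈ V ⊔ V.map (MulAut.conj t).toMonoidHom
  indep : ∀ t ∈ T, (∀ d ∈ D, t * d * t⁻¹ ∈ D) → ∀ v ∈ V, t * v * t⁻¹ ∈ V
  ti : ∀ l ∈ L, Mv D Z l → ∀ b ∈ B, b ∉ Q → Mv D Z (l⁻¹ * b * l)
  core : ∀ R : Subgroup G, R ≤ B → (∀ l ∈ L, ∀ r ∈ R, l * r * l⁻¹ ∈ R) →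
    (∀ a ∈ A, ∀ r ∈ R, a * r * a⁻¹ ∈ R) → R = ⊥

/-- conjugate of a subgroup -/
def Dm (D : Subgroup G) (g : G) : Subgroup G := D.map (MulAut.conj g).toMonoidHom

theorem mem_Dm {D : Subgroup G} {g x : G} : x ∈ Dm D g ↔ cj g⁻¹ x ∈ D := by
  constructor
  · rintro ⟨d, hd, rfl⟩
    have : cj g⁻¹ ((MulAut.conj g).toMonoidHom d) = d := by simp [cj, mul_assoc]
    rw [this]; exact hd
  · intro hx
    refine ⟨cj g⁻¹ x, hx, ?_⟩
    simp [cj, mul_assoc]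

theorem cj_mem_Dm {D : Subgroup G} {g d : G} (hd : d ∈ D) : cj g d ∈ Dm D g := by
  rw [mem_Dm, cj_inv_cj]; exact hd

variable {A T L B Q V Z D : Subgroup G}

namespace Dat

variable (h : Dat A T L B Q V Z D)

include h

theorem VB : V ≤ B := h.VQ.trans h.QB

theorem DV : D ≤ V := h.DZ.trans h.ZV

theorem BA : B ≤ A := h.BT.trans h.TA

theorem Vinv {v : G} (hv : v ∈ V) : v⁻¹ = v := inv_eq_of_mul_eq_one_left (h.Vsq v hv)

theorem cjB {a b : G} (ha : a ∈ A) (hb : b ∈ B) : cj a b ∈ B := h.AnB a ha b hb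

theorem cjB_inv {a b : G} (ha : a ∈ A) (hb : cj a b ∈ B) : b ∈ B := by
  have := h.cjB (A.inv_mem ha) hb
  rwa [cj_inv_cj] at this

theorem cjZ {a b : G} (ha : a ∈ A) (hb : b ∈ Z) : cj a b ∈ Z := h.AnZ a ha b hb

theorem cjQ {l b : G} (hl : l ∈ L) (hb : b ∈ Q) : cj l b ∈ Q := h.LnQ l hl b hb

theorem cjV {l b : G} (hl : l ∈ L) (hb : b ∈ V) : cj l b ∈ V := h.LnV l hl b hb

omit h in
theorem cjL {l g : G} (hl : l ∈ L) (hg : g ∈ L) : cj l g ∈ L :=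
  L.mul_mem (L.mul_mem hl hg) (L.inv_mem hl)

/-- commutator of `v ∈ V` and `b ∈ B`, conjugation form -/
theorem comm' {v b : G} (hv : v ∈ V) (hb : b ∈ B) : ∃ d ∈ D, cj v b = d * b :=
  ⟨v * b * v⁻¹ * b⁻¹, h.comm v hv b hb, by simp [cj, mul_assoc]⟩

theorem commB {v b : G} (hv : v ∈ V) (hb : b ∈ B) : ∃ d ∈ D, cj b v = d * v := by
  refine ⟨(v * b * v⁻¹ * b⁻¹)⁻¹, D.inv_mem (h.comm v hv b hb), ?_⟩
  simp [cj, mul_assoc]

theorem exists_ne : ∃ d ∈ D, d ≠ 1 := by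
  obtain ⟨l, hl, d, hd, hdZ⟩ := h.moves
  refine ⟨d, hd, ?_⟩
  rintro rfl
  apply hdZ
  have : cj l 1 = 1 := by simp [cj]
  rw [this]; exact Z.one_mem

section

variable {n : ℕ} (hc : ∀ m < n, ∀ w ∈ W A L m, Com V w)

include hc

theorem memB {m : ℕ} (hm : m ≤ n) {w : G} (hw : w ∈ W A L m) {v : G} (hv : v ∈ V) :
    cj w⁻¹ v ∈ B := by
  induction m generalizing w with
  | zero => exact h.cjB (A.inv_mem hw) (h.VB hv)
  | succ m ih =>
    obtain ⟨w', hw', l, hl, a, ha, rfl⟩ := hw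
    have h1 := ih (by omega) hw'
    have h2 : cj w'⁻¹ v ∈ Q := by
      apply h.QcV _ h1
      intro u hu
      have := (hc m (by omega) w' hw').inv u hu v hv
      exact this.symm
    have h3 : cj l⁻¹ (cj w'⁻¹ v) ∈ Q := h.cjQ (L.inv_mem hl) h2
    have h4 : cj a⁻¹ (cj l⁻¹ (cj w'⁻¹ v)) ∈ B := h.cjB (A.inv_mem ha) (h.QB h3)
    have e : (w' * l * a)⁻¹ = a⁻¹ * (l⁻¹ * w'⁻¹) := by simp [mul_assoc]
    rw [e, cj_mul, cj_mul]
    exact h4

theorem memB' {m : ℕ} (hm : m ≤ n) {w : G} (hw : w ∈ W A L m) {v : G} (hv : v ∈ V) :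
    cj w v ∈ B := by
  have := h.memB hc hm (W_inv hw) hv
  simpa using this

/-- in a critical pair there is an element of `V` which acts nontrivially -/
theorem crit_elt {w : G} (hw : w ∈ W A L n) (hnc : ¬ Com V w) :
    ∃ v ∈ V, cj w v ∈ B ∧ cj w v ∉ Q := by
  simp only [Com] at hnc
  push Not at hnc
  obtain ⟨v, hv, u, hu, hne⟩ := hnc
  exact ⟨u, hu, h.memB' hc le_rfl hw hu, fun hq => hne (h.VcQ _ hq v hv).symm⟩

/-- centraliser in a critical pair -/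
theorem crit_Z {w : G} (hw : w ∈ W A L n) (hnc : ¬ Com V w) {v : G} (hv : v ∈ V)
    (hcv : ∀ u ∈ V, v * cj w u = cj w u * v) : v ∈ Z := by
  obtain ⟨u, hu, hB, hQ⟩ := h.crit_elt hc hw hnc
  by_contra hZ
  exact h.ncomm v hv hZ _ hB hQ (hcv u hu)

/-- the injection of coset spaces given by a critical pair -/
theorem crit_inj {w : G} (hw : w ∈ W A L n) (hnc : ¬ Com V w) :
    ∃ f : V ⧸ Z.subgroupOf V → B ⧸ Q.subgroupOf B, Function.Injective f ∧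
      ∀ v : V, ∃ hB : cj w v ∈ B, f (Quotient.mk'' v) = Quotient.mk'' ⟨cj w v, hB⟩ := by
  have hnc' : ¬ Com V w⁻¹ := fun hcom => hnc hcom.of_inv
  let f0 : V → B := fun v => ⟨cj w v, h.memB' hc le_rfl hw v.2⟩
  let f : V ⧸ Z.subgroupOf V → B ⧸ Q.subgroupOf B :=
    Quotient.map' f0 (by
      intro v₁ v₂ hv
      rw [QuotientGroup.leftRel_apply] at hv ⊢
      rw [Subgroup.mem_subgroupOf] at hv ⊢
      have e : (((f0 v₁)⁻¹ * f0 v₂ : B) : G) = cj w ((v₁⁻¹ * v₂ : V) : G) := by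
        simp [f0, cj, mul_assoc]
      rw [e]
      apply h.QcV _ (h.memB' hc le_rfl hw (v₁⁻¹ * v₂ : V).2)
      intro u hu
      have h1 : cj w⁻¹ u ∈ B := h.memB hc le_rfl hw hu
      have h2 := h.BcZ _ h1 _ hv
      have h3 := (cj_comm (g := w)).2 h2
      rw [cj_cj_inv] at h3
      exact h3.symm)
  have hf : Function.Injective f := by
    intro x y
    induction x using Quotient.inductionOn' with | _ v₁
    induction y using Quotient.inductionOn' with | _ v₂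
    intro hxy
    have hxy' : (Quotient.mk'' (f0 v₁) : B ⧸ Q.subgroupOf B) = Quotient.mk'' (f0 v₂) := hxy
    rw [Quotient.eq''] at hxy' ⊢
    rw [QuotientGroup.leftRel_apply] at hxy' ⊢
    rw [Subgroup.mem_subgroupOf] at hxy' ⊢
    have e : (((f0 v₁)⁻¹ * f0 v₂ : B) : G) = cj w ((v₁⁻¹ * v₂ : V) : G) := by
      simp [f0, cj, mul_assoc]
    rw [e] at hxy'
    apply h.crit_Z hc (W_inv hw) hnc' (v₁⁻¹ * v₂ : V).2
    intro u hu
    have h1 := h.VcQ _ hxy' u hu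
    have h2 := (cj_comm (g := w⁻¹)).2 h1
    rw [cj_inv_cj] at h2
    exact h2
  exact ⟨f, hf, fun v => ⟨h.memB' hc le_rfl hw v.2, rfl⟩⟩

/-- a critical conjugate covers `B / Q` -/
theorem crit_B [Finite G] {w : G} (hw : w ∈ W A L n) (hnc : ¬ Com V w) {b : G} (hb : b ∈ B) :
    ∃ v ∈ V, ∃ q ∈ Q, b = cj w v * q := by
  obtain ⟨f, hf, hfe⟩ := h.crit_inj hc hw hnc
  have hcard : Nat.card (B ⧸ Q.subgroupOf B) ≤ Nat.card (V ⧸ Z.subgroupOf V) := h.card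
  have hbij := Function.Injective.bijective_of_nat_card_le hf hcard
  obtain ⟨x, hx⟩ := hbij.2 (Quotient.mk'' ⟨b, hb⟩)
  induction x using Quotient.inductionOn' with | _ v
  obtain ⟨hB, hv⟩ := hfe v
  rw [hv, Quotient.eq'', QuotientGroup.leftRel_apply, Subgroup.mem_subgroupOf] at hx
  refine ⟨v, v.2, (cj w v)⁻¹ * b, ?_, by simp⟩
  simpa using hx

/-- a critical pair gives `|V : Z| = |B : Q|` -/
theorem crit_card [Finite G] {w : G} (hw : w ∈ W A L n) (hnc : ¬ Com V w) :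
    Nat.card (V ⧸ Z.subgroupOf V) ≤ Nat.card (B ⧸ Q.subgroupOf B) := by
  obtain ⟨f, hf, -⟩ := h.crit_inj hc hw hnc
  exact Nat.card_le_card_of_injective f hf

/-- the commutator group of a critical pair -/
theorem crit_D [Finite G] {w : G} (hw : w ∈ W A L n) (hnc : ¬ Com V w) {d : G} (hd : d ∈ D) :
    cj w d ∈ D := by
  have hnc' : ¬ Com V w⁻¹ := fun hcom => hnc hcom.of_inv
  have key : Subgroup.closure {x | ∃ v ∈ V, ∃ b ∈ B, x = v * b * v⁻¹ * b⁻¹} ≤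
      D.comap (MulAut.conj w).toMonoidHom := by
    rw [Subgroup.closure_le]
    rintro x ⟨v, hv, b, hb, rfl⟩
    obtain ⟨v', hv', q, hq, rfl⟩ := h.crit_B hc (W_inv hw) hnc' hb
    have hqv : q * v⁻¹ = v⁻¹ * q := h.VcQ q hq _ (V.inv_mem hv)
    have e1 : v * (cj w⁻¹ v' * q) * v⁻¹ * (cj w⁻¹ v' * q)⁻¹ =
        v * cj w⁻¹ v' * v⁻¹ * (cj w⁻¹ v')⁻¹ := by
      calc v * (cj w⁻¹ v' * q) * v⁻¹ * (cj w⁻¹ v' * q)⁻¹
          = v * cj w⁻¹ v' * (q * v⁻¹) * q⁻¹ * (cj w⁻¹ v')⁻¹ := by simp [mul_assoc]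
        _ = v * cj w⁻¹ v' * (v⁻¹ * q) * q⁻¹ * (cj w⁻¹ v')⁻¹ := by rw [hqv]
        _ = v * cj w⁻¹ v' * v⁻¹ * (cj w⁻¹ v')⁻¹ := by simp [mul_assoc]
    have e2 : cj w (v * cj w⁻¹ v' * v⁻¹ * (cj w⁻¹ v')⁻¹) =
        (v' * cj w v * v'⁻¹ * (cj w v)⁻¹)⁻¹ := by
      simp [cj, mul_assoc]
    have h1 := h.comm v' hv' (cj w v) (h.memB' hc le_rfl hw hv)
    have h2 : cj w (v * (cj w⁻¹ v' * q) * v⁻¹ * (cj w⁻¹ v' * q)⁻¹) ∈ D := by
      rw [e1, e2]; exact D.inv_mem h1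
    simpa [cj] using h2
  have := key (h.Dgen hd)
  simpa [cj] using this

end

/-! ### The groups generated by conjugates of `V` -/

theorem RP_le (P : G → Prop) : Data.RP A V P ≤ B := by
  rw [Data.RP, Subgroup.closure_le]
  rintro x ⟨t, ht, -, v, hv, rfl⟩
  exact h.cjB ht (h.VB hv)

/-- no `L`-invariance for the full family -/
theorem not_full (hL : ∀ l ∈ L, ∀ r ∈ Data.RP A V (fun _ => True),
    l * r * l⁻¹ ∈ Data.RP A V (fun _ => True)) : False := by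
  have h1 := h.core _ (h.RP_le _) hL Data.RP_A
  obtain ⟨d, hd, hd1⟩ := h.exists_ne
  have h2 : d ∈ Data.RP A V (fun _ => True) := by
    have := Data.mem_RP (A := A) (V := V) (P := fun _ => True) A.one_mem trivial (h.DV hd)
    rwa [cj_one] at this
  rw [h1] at h2
  exact hd1 (by simpa using h2)

section

variable {n : ℕ} (hc : ∀ m < n, ∀ w ∈ W A L m, Com V w)

include hc

/-- the key normalisation argument -/
theorem norm_core [Finite G] (P : G → Prop) (hP : P 1) {w : G} (hw : w ∈ W A L n)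
    (hnc : ¬ Com V w) {l₀ : G} (hl₀ : l₀ ∈ L) (hm : Mv D Z l₀)
    (hall : ∀ t ∈ A, P t → ∀ v ∈ V, cj w⁻¹ (cj l₀ (cj t v)) ∈ B) :
    ∀ l ∈ L, ∀ r ∈ Data.RP A V P, l * r * l⁻¹ ∈ Data.RP A V P := by
  have hVR : V ≤ Data.RP A V P := by
    intro v hv
    have := Data.mem_RP (A := A) (V := V) (P := P) A.one_mem hP hv
    rwa [cj_one] at this
  -- `cj w v₁` normalises the conjugate
  have hu1 : ∀ v₁ ∈ V, ∀ x ∈ Data.RP A V P, cj (cj l₀⁻¹ (cj w v₁)) x ∈ Data.RP A V P := by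
    intro v₁ hv₁
    apply Data.closure_conj
    rintro x ⟨t, ht, hPt, v, hv, rfl⟩
    have h1 := hall t ht hPt v hv
    obtain ⟨d, hd, h2⟩ := h.comm' hv₁ h1
    have key : cj (cj w v₁) (cj l₀ (cj t v)) = cj w d * cj l₀ (cj t v) := by
      rw [cj_cj, h2, cj_prod, cj_cj_inv]
    have e : cj (cj l₀⁻¹ (cj w v₁)) (cj t v) = cj l₀⁻¹ (cj (cj w v₁) (cj l₀ (cj t v))) := by
      simp [cj, mul_assoc]
    rw [e, key, cj_prod, cj_inv_cj]
    exact (Data.RP A V P).mul_mem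
      (hVR (h.cjV (L.inv_mem hl₀) (h.DV (h.crit_D hc hw hnc hd)))) (Data.mem_RP ht hPt hv)
  have hB1 : ∀ b ∈ B, ∀ x ∈ Data.RP A V P, cj b x ∈ Data.RP A V P := by
    intro b hb
    apply Data.closure_conj
    rintro x ⟨t, ht, hPt, v, hv, rfl⟩
    have hb' : cj t⁻¹ b ∈ B := h.cjB (A.inv_mem ht) hb
    have e : cj b (cj t v) = cj t (cj (cj t⁻¹ b) v) := by simp [cj, mul_assoc]
    rw [e]
    exact Data.mem_RP ht hPt (h.cjV (h.BL hb') hv)
  -- the subgroup of elements of `G` whose `l₀`-conjugate normalises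
  let N : Subgroup G :=
    { carrier := {g | (∀ x ∈ Data.RP A V P, cj (cj l₀⁻¹ g) x ∈ Data.RP A V P) ∧
        (∀ x ∈ Data.RP A V P, cj (cj l₀⁻¹ g)⁻¹ x ∈ Data.RP A V P)}
      one_mem' := by
        constructor
        · intro x hx; simpa [cj] using hx
        · intro x hx; simpa [cj] using hx
      mul_mem' := by
        rintro a b ⟨ha1, ha2⟩ ⟨hb1, hb2⟩
        constructor
        · intro x hx
          rw [cj_prod, cj_mul]
          exact ha1 _ (hb1 x hx)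
        · intro x hx
          rw [cj_prod, mul_inv_rev, cj_mul]
          exact hb2 _ (ha2 x hx)
      inv_mem' := by
        rintro a ⟨ha1, ha2⟩
        constructor
        · intro x hx
          rw [cj_inv]; exact ha2 x hx
        · intro x hx
          rw [cj_inv, inv_inv]; exact ha1 x hx }
  have hLN : L ≤ N := by
    apply h.gen l₀ hl₀ hm N
    · intro b hb
      obtain ⟨v, hv, q, hq, rfl⟩ := h.crit_B hc hw hnc hb
      apply N.mul_mem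
      · refine ⟨hu1 v hv, ?_⟩
        have e : (cj l₀⁻¹ (cj w v))⁻¹ = cj l₀⁻¹ (cj w v⁻¹) := by rw [cj_inv, cj_inv]
        rw [e]
        exact hu1 _ (V.inv_mem hv)
      · have hq' : cj l₀⁻¹ q ∈ B := h.QB (h.cjQ (L.inv_mem hl₀) hq)
        exact ⟨hB1 _ hq', hB1 _ (B.inv_mem hq')⟩
    · intro b hb
      have e : cj l₀⁻¹ (l₀ * b * l₀⁻¹) = b := cj_inv_cj l₀ b
      refine ⟨?_, ?_⟩
      · intro x hx
        rw [e]; exact hB1 b hb x hx
      · intro x hx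
        rw [e]; exact hB1 b⁻¹ (B.inv_mem hb) x hx
  intro l hl r hr
  have h5 := (hLN (show cj l₀ l ∈ L from L.mul_mem (L.mul_mem hl₀ hl) (L.inv_mem hl₀))).1 r hr
  rw [cj_inv_cj] at h5
  exact h5

/-- an active element exists -/
theorem exists_active [Finite G] {w : G} (hw : w ∈ W A L n) (hnc : ¬ Com V w)
    {l₀ : G} (hl₀ : l₀ ∈ L) (hm : Mv D Z l₀) :
    ∃ t ∈ A, ∃ v ∈ V, cj w⁻¹ (cj l₀ (cj t v)) ∉ B := by
  by_contra hcon
  push Not at hcon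
  exact h.not_full (h.norm_core hc (fun _ => True) trivial hw hnc hl₀ hm
    (fun t ht _ v hv => hcon t ht v hv))

theorem active_crit {m : ℕ} (hmn : m + 1 = n) {w₁ l a : G} (hw₁ : w₁ ∈ W A L m) (hl : l ∈ L)
    (ha : a ∈ A) {l₀ : G} (hl₀ : l₀ ∈ L) {t v : G} (ht : t ∈ A) (hv : v ∈ V)
    (hact : cj (w₁ * l * a)⁻¹ (cj l₀ (cj t v)) ∉ B) :
    ¬ Com V ((l₀ * t)⁻¹ * w₁) := by
  intro hcom
  apply hact
  have hmem : (l₀ * t)⁻¹ * w₁ ∈ W A L n := by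
    have := W_cons hw₁ (L.inv_mem hl₀) (A.inv_mem ht)
    rw [hmn] at this
    simpa [mul_assoc] using this
  have h1 := h.memB hc le_rfl hmem hv
  have h2 : cj ((l₀ * t)⁻¹ * w₁)⁻¹ v ∈ Q := by
    apply h.QcV _ h1
    intro u hu
    exact (hcom.inv u hu v hv).symm
  have h3 := h.cjQ (L.inv_mem hl) h2
  have h4 := h.cjB (A.inv_mem ha) (h.QB h3)
  have e : cj (w₁ * l * a)⁻¹ (cj l₀ (cj t v)) = cj a⁻¹ (cj l⁻¹ (cj ((l₀ * t)⁻¹ * w₁)⁻¹ v)) := by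
    simp [cj, mul_assoc]
  rw [e]
  exact h4

theorem active_notT {w : G} (hw : w ∈ W A L n) {l₀ : G} (hl₀ : l₀ ∈ L) {t v : G} (ht : t ∈ A)
    (hv : v ∈ V) (hact : cj w⁻¹ (cj l₀ (cj t v)) ∉ B) : t ∉ T := by
  intro htT
  apply hact
  have h1 := h.side t htT l₀ hl₀ v hv
  have h2 : V ⊔ V.map (MulAut.conj t).toMonoidHom ≤ B.comap (MulAut.conj w⁻¹).toMonoidHom := by
    apply sup_le
    · intro y hy
      have := h.memB hc le_rfl hw hy
      simpa [cj] using this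
    · rintro _ ⟨y, hy, rfl⟩
      have := h.memB hc le_rfl (W_mul_left hw (A.inv_mem ht)) hy
      simpa [cj, mul_assoc] using this
  have h3 := h2 h1
  simpa [cj, mul_assoc] using h3

theorem active_cent [Finite G] (hn : 0 < n) {m : ℕ} (hmn : m + 1 = n) {w₁ l a : G}
    (hw₁ : w₁ ∈ W A L m) (hl : l ∈ L) (ha : a ∈ A) (hnc : ¬ Com V (w₁ * l * a)) {l₀ : G}
    (hl₀ : l₀ ∈ L) (hm : Mv D Z l₀) {t v : G} (ht : t ∈ A) (hv : v ∈ V)
    (hact : cj (w₁ * l * a)⁻¹ (cj l₀ (cj t v)) ∉ B) :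
    Dm D w₁ = Dm D t ∧ ∀ l' ∈ L, ∀ d ∈ D, cj l' (cj t d) = cj t d := by
  have hw : w₁ * l * a ∈ W A L n := by rw [← hmn]; exact ⟨w₁, hw₁, l, hl, a, ha, rfl⟩
  have hcr := h.active_crit hc hmn hw₁ hl ha hl₀ ht hv hact
  have hmem : (l₀ * t)⁻¹ * w₁ ∈ W A L n := by
    have := W_cons hw₁ (L.inv_mem hl₀) (A.inv_mem ht)
    rw [hmn] at this
    simpa [mul_assoc] using this
  have hcr' : ¬ Com V ((l₀ * t)⁻¹ * w₁)⁻¹ := fun hcom => hcr hcom.of_inv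
  -- the elements `cj l₀ (cj t d)` are of the form `cj w₁ d'`
  have hz' : ∀ d ∈ D, ∃ d' ∈ D, cj l₀ (cj t d) = cj w₁ d' := by
    intro d hd
    refine ⟨cj ((l₀ * t)⁻¹ * w₁)⁻¹ d, h.crit_D hc (W_inv hmem) hcr' hd, ?_⟩
    simp [cj, mul_assoc]
  have hcent : ∀ d ∈ D, ∀ l' ∈ L, cj l' (cj l₀ (cj t d)) = cj l₀ (cj t d) := by
    intro d hd
    obtain ⟨d', hd', he⟩ := hz' d hd
    have hLc : L ≤ Subgroup.centralizer {cj l₀ (cj t d)} := by
      apply h.gen l₀ hl₀ hm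
      · intro b hb
        rw [Subgroup.mem_centralizer_iff]
        intro y hy
        rw [Set.mem_singleton_iff] at hy
        rw [hy]
        obtain ⟨v', hv', q, hq, rfl⟩ := h.crit_B hc hw hnc hb
        have k1 : cj l₀ (cj t d) * cj (w₁ * l * a) v' = cj (w₁ * l * a) v' * cj l₀ (cj t d) := by
          rw [he]
          have e : cj (w₁ * l * a) v' = cj w₁ (cj l (cj a v')) := by rw [cj_mul, cj_mul]
          rw [e, cj_comm]
          have h1 := hc 0 hn a ha (cj l⁻¹ d') (h.cjV (L.inv_mem hl) (h.DV hd')) v' hv'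
          have h2 := (cj_comm (g := l)).2 h1
          rw [cj_cj_inv] at h2
          exact h2
        have k2 : q * cj l₀ (cj t d) = cj l₀ (cj t d) * q :=
          h.VcQ q hq _ (h.cjV hl₀ (h.ZV (h.cjZ ht (h.DZ hd))))
        exact (show Commute (cj l₀ (cj t d)) (cj (w₁ * l * a) v' * q) from
          Commute.mul_right k1 k2.symm)
      · intro b hb
        rw [Subgroup.mem_centralizer_iff]
        intro y hy
        rw [Set.mem_singleton_iff] at hy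
        rw [hy]
        have : cj t d ∈ Z := h.cjZ ht (h.DZ hd)
        exact (cj_comm (g := l₀)).2 (h.BcZ b hb _ this).symm
    intro l' hl'
    rw [cj_eq_self]
    have := Subgroup.mem_centralizer_iff.1 (hLc hl') _ rfl
    exact this.symm
  have h6 : ∀ d ∈ D, cj l₀ (cj t d) = cj t d := by
    intro d hd
    have := hcent d hd l₀⁻¹ (L.inv_mem hl₀)
    rw [cj_inv_cj] at this
    exact this.symm
  refine ⟨?_, ?_⟩
  · apply le_antisymm
    · intro x hx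
      rw [mem_Dm] at hx
      have h7 := h.crit_D hc hmem hcr hx
      have e : cj ((l₀ * t)⁻¹ * w₁) (cj w₁⁻¹ x) = cj t⁻¹ (cj l₀⁻¹ x) := by
        simp [cj, mul_assoc]
      rw [e] at h7
      have h8 := h6 _ h7
      rw [cj_cj_inv, cj_cj_inv] at h8
      rw [← h8] at h7
      rwa [mem_Dm]
    · intro x hx
      rw [mem_Dm] at hx
      obtain ⟨d', hd', he⟩ := hz' _ hx
      rw [h6 _ hx, cj_cj_inv] at he
      rw [he]
      exact cj_mem_Dm hd'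
  · intro l' hl' d hd
    have := hcent d hd l' hl'
    rwa [h6 d hd] at this

end

omit h in
/-- `τ` is a mate. -/
structure Mate (A T L V D : Subgroup G) (τ : G) : Prop where
  mem : τ ∈ A
  notMem : τ ∉ T
  cent : ∀ l ∈ L, ∀ d ∈ D, cj l (cj τ d) = cj τ d
  norm : ∀ l ∈ L, ∀ r ∈ Data.RP A V (fun t => t ∈ T ∨ Dm D t ≠ Dm D τ),
    l * r * l⁻¹ ∈ Data.RP A V (fun t => t ∈ T ∨ Dm D t ≠ Dm D τ)

theorem mate_D {τ τ' : G} (hτ : Mate A T L V D τ) (hτ' : Mate A T L V D τ') :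
    Dm D τ = Dm D τ' := by
  by_contra hne
  have hsup : Data.RP A V (fun _ => True) ≤ Data.RP A V (fun t => t ∈ T ∨ Dm D t ≠ Dm D τ) ⊔
      Data.RP A V (fun t => t ∈ T ∨ Dm D t ≠ Dm D τ') := by
    rw [Data.RP, Subgroup.closure_le]
    rintro x ⟨t, ht, -, v, hv, rfl⟩
    by_cases h1 : t ∈ T ∨ Dm D t ≠ Dm D τ
    · exact (le_sup_left : Data.RP A V (fun t => t ∈ T ∨ Dm D t ≠ Dm D τ) ≤ _)
        (Data.mem_RP ht h1 hv)
    · have h2 : Dm D t ≠ Dm D τ' := by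
        push Not at h1
        rw [h1.2]; exact hne
      exact (le_sup_right : Data.RP A V (fun t => t ∈ T ∨ Dm D t ≠ Dm D τ') ≤ _)
        (Data.mem_RP ht (Or.inr h2) hv)
  have hle : ∀ P : G → Prop, Data.RP A V P ≤ Data.RP A V (fun _ => True) := by
    intro P
    rw [Data.RP, Subgroup.closure_le]
    rintro x ⟨t, ht, -, v, hv, rfl⟩
    exact Data.mem_RP ht trivial hv
  have heq : Data.RP A V (fun _ => True) = Data.RP A V (fun t => t ∈ T ∨ Dm D t ≠ Dm D τ) ⊔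
      Data.RP A V (fun t => t ∈ T ∨ Dm D t ≠ Dm D τ') :=
    le_antisymm hsup (sup_le (hle _) (hle _))
  apply h.not_full
  intro l hl r hr
  have hcl : Data.RP A V (fun _ => True) ≤
      (Data.RP A V (fun _ => True)).comap (MulAut.conj l).toMonoidHom := by
    nth_rewrite 1 [heq]
    apply sup_le
    · intro y hy
      have := hle _ (hτ.norm l hl y hy)
      simpa using this
    · intro y hy
      have := hle _ (hτ'.norm l hl y hy)
      simpa using this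
  have := hcl hr
  simpa using this

/-- mates define the same class -/
theorem mate_V {τ τ' : G} (hτ : Mate A T L V D τ) (hτ' : Mate A T L V D τ') {v : G}
    (hv : v ∈ V) : cj (τ⁻¹ * τ') v ∈ V := by
  have h1 := h.mate_D hτ hτ'
  refine h.indep _ (h.idx τ hτ.mem τ' hτ'.mem hτ.notMem hτ'.notMem) ?_ v hv
  intro d hd
  have h2 : cj τ' d ∈ Dm D τ := by rw [h1]; exact cj_mem_Dm hd
  rw [mem_Dm, ← cj_mul] at h2
  exact h2

section

variable {n : ℕ} (hc : ∀ m < n, ∀ w ∈ W A L m, Com V w)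

include hc

theorem active_mate [Finite G] (hn : 0 < n) {m : ℕ} (hmn : m + 1 = n) {w₁ l a : G}
    (hw₁ : w₁ ∈ W A L m) (hl : l ∈ L) (ha : a ∈ A) (hnc : ¬ Com V (w₁ * l * a)) {l₀ : G}
    (hl₀ : l₀ ∈ L) (hm : Mv D Z l₀) {t v : G} (ht : t ∈ A) (hv : v ∈ V)
    (hact : cj (w₁ * l * a)⁻¹ (cj l₀ (cj t v)) ∉ B) : Mate A T L V D t := by
  have hw : w₁ * l * a ∈ W A L n := by rw [← hmn]; exact ⟨w₁, hw₁, l, hl, a, ha, rfl⟩
  obtain ⟨hz1, hz2⟩ := h.active_cent hc hn hmn hw₁ hl ha hnc hl₀ hm ht hv hact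
  refine ⟨ht, h.active_notT hc hw hl₀ ht hv hact, hz2, ?_⟩
  apply h.norm_core hc _ (Or.inl T.one_mem) hw hnc hl₀ hm
  intro t' ht' hP v' hv'
  by_contra hact'
  obtain ⟨hz1', -⟩ := h.active_cent hc hn hmn hw₁ hl ha hnc hl₀ hm ht' hv' hact'
  rcases hP with hP | hP
  · exact h.active_notT hc hw hl₀ ht' hv' hact' hP
  · exact hP (by rw [← hz1', hz1])

theorem exists_mate [Finite G] (hn : 0 < n) {w : G} (hw : w ∈ W A L n) (hnc : ¬ Com V w) :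
    ∃ τ, Mate A T L V D τ := by
  obtain ⟨m, rfl⟩ : ∃ m, n = m + 1 := ⟨n - 1, by omega⟩
  obtain ⟨l₀, hl₀, hm⟩ := h.moves
  obtain ⟨t, ht, v, hv, hact⟩ := h.exists_active hc hw hnc hl₀ hm
  obtain ⟨w₁, hw₁, l, hl, a, ha, rfl⟩ := hw
  exact ⟨t, h.active_mate hc hn rfl hw₁ hl ha hnc hl₀ hm ht hv hact⟩

/-- left extension of a critical pair by a mate -/
theorem extend [Finite G] (hn : 0 < n) {m : ℕ} (hmn : m + 1 = n) {τ : G}
    (hτ : Mate A T L V D τ) {w₁ l a : G} (hw₁ : w₁ ∈ W A L m) (hl : l ∈ L) (ha : a ∈ A)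
    (hnc : ¬ Com V (w₁ * l * a)) {l₀ : G} (hl₀ : l₀ ∈ L) (hm : Mv D Z l₀) :
    ¬ Com V ((l₀ * τ)⁻¹ * w₁) := by
  have hw : w₁ * l * a ∈ W A L n := by rw [← hmn]; exact ⟨w₁, hw₁, l, hl, a, ha, rfl⟩
  obtain ⟨t, ht, v, hv, hact⟩ := h.exists_active hc hw hnc hl₀ hm
  have hmt := h.active_mate hc hn hmn hw₁ hl ha hnc hl₀ hm ht hv hact
  have hcr := h.active_crit hc hmn hw₁ hl ha hl₀ ht hv hact
  intro hcom
  apply hcr
  intro x hx y hy
  have h1 := hcom (cj (τ⁻¹ * t) x) (h.mate_V hτ hmt hx) y hy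
  have h2 := (cj_comm (g := (τ⁻¹ * t)⁻¹)).2 h1
  rw [cj_inv_cj, ← cj_mul] at h2
  have e : (τ⁻¹ * t)⁻¹ * ((l₀ * τ)⁻¹ * w₁) = (l₀ * t)⁻¹ * w₁ := by simp [mul_assoc]
  rw [e] at h2
  exact h2

theorem iterate [Finite G] (hn : 0 < n) {τ : G} (hτ : Mate A T L V D τ) {w : G}
    (hw : w ∈ W A L n) (hnc : ¬ Com V w) {l₀ : G} (hl₀ : l₀ ∈ L) (hm : Mv D Z l₀) (k : ℕ) :
    ∀ j, k + j = n → ∃ u ∈ W A L j, ¬ Com V (((l₀ * τ)⁻¹) ^ k * u) := by
  induction k with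
  | zero =>
    intro j hj
    obtain rfl : j = n := by omega
    exact ⟨w, hw, by simpa using hnc⟩
  | succ k ih =>
    intro j hj
    obtain ⟨u, hu, hcu⟩ := ih (j + 1) (by omega)
    obtain ⟨u₁, hu₁, l, hl, a, ha, rfl⟩ := hu
    refine ⟨u₁, hu₁, ?_⟩
    have h1 : (l₀ * τ)⁻¹ ^ k * u₁ ∈ W A L (k + j) := W_pow hu₁ hl₀ hτ.mem k
    have h2 := h.extend hc hn (m := k + j) (by omega) hτ h1 hl ha
      (by simpa [mul_assoc] using hcu) hl₀ hm
    rw [pow_succ', mul_assoc]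
    exact h2

/-- all words `τ (l₀ τ)^n` are critical -/
theorem crit_pow [Finite G] (hn : 0 < n) {τ : G} (hτ : Mate A T L V D τ) {w : G}
    (hw : w ∈ W A L n) (hnc : ¬ Com V w) {l₀ : G} (hl₀ : l₀ ∈ L) (hm : Mv D Z l₀) :
    ¬ Com V (τ * (l₀ * τ) ^ n) := by
  obtain ⟨a, ha, hca⟩ := h.iterate hc hn hτ hw hnc hl₀ hm n 0 rfl
  obtain ⟨m, rfl⟩ : ∃ m, n = m + 1 := ⟨n - 1, by omega⟩
  have h1 : (l₀ * τ)⁻¹ ^ m * τ⁻¹ ∈ W A L (m + 0) :=
    W_pow (show τ⁻¹ ∈ W A L 0 from A.inv_mem hτ.mem) hl₀ hτ.mem m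
  have h2 := h.extend hc hn (m := m) rfl hτ h1 (L.inv_mem hl₀) ha
    (by
      rw [pow_succ] at hca
      simpa [mul_assoc] using hca) hl₀ hm
  intro hcom
  apply h2
  have := hcom.inv
  have e : (τ * (l₀ * τ) ^ (m + 1))⁻¹ = (l₀ * τ)⁻¹ * ((l₀ * τ)⁻¹ ^ m * τ⁻¹) := by
    rw [mul_inv_rev, ← inv_pow, pow_succ']
    simp [mul_assoc]
  rwa [e] at this

/-- the mate relation is symmetric -/
theorem mate_inv [Finite G] (hn : 0 < n) {τ : G} (hτ : Mate A T L V D τ) {w : G}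
    (hw : w ∈ W A L n) (hnc : ¬ Com V w) : Mate A T L V D τ⁻¹ := by
  obtain ⟨l₀, hl₀, hm⟩ := h.moves
  have hcr := h.crit_pow hc hn hτ hw hnc hl₀ hm
  obtain ⟨m, rfl⟩ : ∃ m, n = m + 1 := ⟨n - 1, by omega⟩
  have hw₁ : τ * (l₀ * τ) ^ m ∈ W A L m := Data.pow_mem_W hl₀ hτ.mem m
  have e1 : τ * (l₀ * τ) ^ (m + 1) = τ * (l₀ * τ) ^ m * l₀ * τ := by
    rw [pow_succ]; simp [mul_assoc]
  have hwn : τ * (l₀ * τ) ^ (m + 1) ∈ W A L (m + 1) := Data.pow_mem_W hl₀ hτ.mem (m + 1)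
  -- the inverse word, with first letter `τ⁻¹`
  have hcr' : ¬ Com V (τ * (l₀ * τ) ^ (m + 1))⁻¹ := fun hcom => hcr hcom.of_inv
  rw [e1] at hcr
  -- if all the `cj l₀⁻¹ (cj τ⁻¹ v)` were in `cj w B` then `B` would be `l₀`-invariant
  have hex : ∃ v ∈ V, cj (τ * (l₀ * τ) ^ m * l₀ * τ)⁻¹ (cj l₀⁻¹ (cj τ⁻¹ v)) ∉ B := by
    by_contra hcon
    push Not at hcon
    have e3 : ∀ v : G, cj (τ * (l₀ * τ) ^ m * l₀ * τ)⁻¹ (cj l₀⁻¹ (cj τ⁻¹ v)) =
        cj τ⁻¹ (cj l₀⁻¹ (cj (τ * (l₀ * τ) ^ (m + 1))⁻¹ v)) := by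
      intro v
      rw [pow_succ']
      simp only [← cj_mul]
      congr 1
      simp [mul_assoc]
    have hLB : L ≤ B := by
      apply h.gen l₀⁻¹ (L.inv_mem hl₀) (h.mvinv _ hl₀ hm) B le_rfl
      intro b hb
      obtain ⟨v, hv, q, hq, rfl⟩ := h.crit_B hc (W_inv hwn) hcr' hb
      have k1 : cj l₀⁻¹ (cj (τ * (l₀ * τ) ^ (m + 1))⁻¹ v) ∈ B := by
        have := hcon v hv
        rw [e3] at this
        have := h.cjB hτ.mem this
        rwa [cj_cj_inv] at this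
      have k2 : cj l₀⁻¹ q ∈ B := h.QB (h.cjQ (L.inv_mem hl₀) hq)
      have := B.mul_mem k1 k2
      rw [← cj_prod] at this
      simpa [cj] using this
    obtain ⟨d, hd, hdZ⟩ := hm
    apply hdZ
    have : cj l₀ d = d := cj_eq_self.2 (h.BcZ l₀ (hLB hl₀) d (h.DZ hd))
    rw [this]; exact h.DZ hd
  obtain ⟨v, hv, hact⟩ := hex
  exact h.active_mate hc hn rfl hw₁ hl₀ hτ.mem hcr (L.inv_mem hl₀)
    (h.mvinv _ hl₀ hm) (A.inv_mem hτ.mem) hv hact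

/-- `D` is fixed by the square of a mate, and the translation fixes `D` to the power `n - 1`. -/
theorem D_facts [Finite G] (hn : 0 < n) {τ : G} (hτ : Mate A T L V D τ) {w : G}
    (hw : w ∈ W A L n) (hnc : ¬ Com V w) {l₀ : G} (hl₀ : l₀ ∈ L) (hm : Mv D Z l₀) :
    (∀ d ∈ D, cj τ (cj τ d) ∈ D) ∧ (∀ d ∈ D, cj ((l₀ * τ) ^ n) d ∈ Dm D (l₀ * τ)) := by
  have h1 : Dm D (l₀ * τ) = Dm D τ := by
    apply le_antisymm
    · intro x hx
      rw [mem_Dm] at hx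
      have h2 := hτ.cent l₀ hl₀ _ hx
      have e : cj l₀ (cj τ (cj (l₀ * τ)⁻¹ x)) = x := by simp [cj, mul_assoc]
      rw [e] at h2
      rw [h2]; exact cj_mem_Dm hx
    · intro x hx
      rw [mem_Dm] at hx
      have h2 := hτ.cent l₀ hl₀ _ hx
      rw [cj_cj_inv] at h2
      rw [mem_Dm]
      have e : cj (l₀ * τ)⁻¹ x = cj τ⁻¹ x := by
        conv_lhs => rw [← h2]
        simp [cj, mul_assoc]
      rw [e]; exact hx
  have hi := h.mate_inv hc hn hτ hw hnc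
  have h2 : Dm D τ = Dm D τ⁻¹ := h.mate_D hτ hi
  refine ⟨?_, ?_⟩
  · intro d hd
    have h3 : cj τ d ∈ Dm D τ⁻¹ := by rw [← h2]; exact cj_mem_Dm hd
    rw [mem_Dm, inv_inv] at h3
    exact h3
  · intro d hd
    have hcr := h.crit_pow hc hn hτ hw hnc hl₀ hm
    have h4 := h.crit_D hc (Data.pow_mem_W hl₀ hτ.mem n) hcr hd
    rw [h1, h2, mem_Dm, inv_inv, ← cj_mul]
    exact h4

/-- `b ≥ 3` is impossible. -/
theorem not_two_le [Finite G] (hn : 2 ≤ n) {w : G} (hw : w ∈ W A L n) (hnc : ¬ Com V w) :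
    False := by
  obtain ⟨τ, hτ⟩ := h.exists_mate hc (by omega) hw hnc
  obtain ⟨l₀, hl₀, hm⟩ := h.moves
  obtain ⟨-, h3⟩ := h.D_facts hc (by omega) hτ hw hnc hl₀ hm
  have hcr := h.crit_pow hc (by omega) hτ hw hnc hl₀ hm
  obtain ⟨v, hv, huB, huQ⟩ := h.crit_elt hc (Data.pow_mem_W hl₀ hτ.mem n) hcr
  obtain ⟨m, rfl⟩ : ∃ m, n = m + 1 := ⟨n - 1, by omega⟩
  -- period
  have hper : ∀ d ∈ D, cj ((l₀ * τ) ^ m) d ∈ D := by
    intro d hd
    have := h3 d hd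
    rw [mem_Dm, ← cj_mul, pow_succ', inv_mul_cancel_left] at this
    exact this
  have hpe : Dm D ((l₀ * τ) ^ m) = D := by
    apply Subgroup.eq_of_le_of_card_ge
    · intro x hx
      rw [mem_Dm] at hx
      have := hper _ hx
      rwa [cj_cj_inv] at this
    · apply le_of_eq
      exact (Nat.card_congr (Subgroup.equivMapOfInjective D _
        (MulAut.conj ((l₀ * τ) ^ m)).injective).toEquiv)
  obtain ⟨d, hd, hdZ⟩ := h.mvinv _ hl₀ hm
  have hd' : d ∈ Dm D ((l₀ * τ) ^ m) := by rw [hpe]; exact hd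
  rw [mem_Dm] at hd'
  set d₁ := cj ((l₀ * τ) ^ m)⁻¹ d with hd₁
  -- the commuting pair at distance two
  have hcom2 : Com V (τ * (l₀ * τ) ^ 1) := hc 1 (by omega) _ (Data.pow_mem_W hl₀ hτ.mem 1)
  have hne := h.ncomm _ (h.cjV (L.inv_mem hl₀) (h.DV hd)) hdZ _ huB huQ
  apply hne
  -- rewrite in terms of powers
  have h5 := hcom2 _ (h.cjV (L.inv_mem hl₀) (h.DV hd')) v hv
  have h6 := (cj_comm (g := (l₀ * τ) ^ m)).2 ((cj_comm (g := l₀)).2 h5)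
  rw [cj_cj_inv, hd₁, cj_cj_inv] at h6
  have e : cj ((l₀ * τ) ^ m) (cj l₀ (cj (τ * (l₀ * τ) ^ 1) v)) =
      cj l₀ (cj (τ * (l₀ * τ) ^ (m + 1)) v) := by
    simp only [← cj_mul]
    congr 1
    rw [pow_one, show l₀ * (τ * (l₀ * τ)) = (l₀ * τ) ^ 2 by simp [pow_succ, mul_assoc],
      show l₀ * (τ * (l₀ * τ) ^ (m + 1)) = (l₀ * τ) * (l₀ * τ) ^ (m + 1) by simp [mul_assoc],
      ← pow_add, ← pow_succ']
  rw [e] at h6
  have h7 := (cj_comm (g := l₀⁻¹)).2 h6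
  rw [cj_inv_cj] at h7
  exact h7

end

end Dat

end Cfsg.Agent.Omega.PushUp
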